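import Groth.Agent.Lib.ParHilb.CurvePar
import Groth.Agent.Lib.Euler.Torsion
import Groth.Agent.Lib.OX.OneDegLocus

/-!
# Parabolic extensions on curves
-/

set_option autoImplicit false
set_option linter.all false
set_option backward.isDefEq.respectTransparency false

universe u

open CategoryTheory CategoryTheory.Limits AlgebraicGeometry TopologicalSpace

noncomputable section

namespace GrothLib.ParHilb

open GrothLib.Euler (grank)

section Category

variable {C : Type*} [Category C] [Abelian C] {E F G K V : C}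

theorem factors_of_comp_cokernel_eq_zero {A : C} {P : Subobject E} {f : A ⟶ E}
    (h : f ≫ cokernel.π P.arrow = 0) : P.Factors f :=
  Subobject.factors_iff _ _ |>.2 ⟨Abelian.monoLift P.arrow f h, Abelian.monoLift_comp _ _ _⟩

theorem isParHom_pullback {𝓔 : ParSh.Str E} {𝓕 : ParSh.Str F} (i : K ⟶ F) {φ : E ⟶ K}
    (h : ParSh.IsParHom 𝓔 (𝓕.induced i) φ) : ParSh.IsParHom 𝓔 𝓕 (φ ≫ i) := fun a h0 h1 => by
  have h2 := h a h0 h1
  rw [at_induced] at h2
  refine (Subobject.factors_iff _ _).2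
    ⟨(((Subobject.pullback i).obj (𝓕.at a)).factorThru _ h2) ≫ Subobject.pullbackπ i (𝓕.at a), ?_⟩
  show ((((Subobject.pullback i).obj (𝓕.at a)).factorThru _ h2) ≫ Subobject.pullbackπ i (𝓕.at a)) ≫ (𝓕.at a).arrow = _
  rw [Category.assoc, (Subobject.isPullback i (𝓕.at a)).w, ← Category.assoc, Subobject.factorThru_arrow,
    Category.assoc]

theorem isParHom_coinduced {𝓔 : ParSh.Str E} {𝓕 : ParSh.Str F} (p : E ⟶ G) [Epi p] {φ : G ⟶ F}
    (h : ParSh.IsParHom (𝓔.coinduced p) 𝓕 φ) : ParSh.IsParHom 𝓔 𝓕 (p ≫ φ) := fun a h0 h1 => by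
  have h2 := h a h0 h1
  rw [at_coinduced] at h2
  refine factors_of_comp_cokernel_eq_zero ?_
  let S := imageSubobject ((𝓔.at a).arrow ≫ p)
  have e : (𝓔.at a).arrow ≫ p ≫ φ = factorThruImageSubobject ((𝓔.at a).arrow ≫ p) ≫ S.arrow ≫ φ := by
    simp only [S, imageSubobject_arrow_comp_assoc, Category.assoc]
  have h3 : (S.arrow ≫ φ) ≫ cokernel.π (𝓕.at a).arrow = 0 := by
    rw [← Subobject.factorThru_arrow _ _ h2, Category.assoc, cokernel.condition, comp_zero]
  rw [e, Category.assoc, h3, comp_zero]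

/-- Intersections and images of a subobject form a short exact sequence. -/
theorem exists_shortExact_pullback_image {i : K ⟶ E} {p : E ⟶ V} {w : i ≫ p = 0}
    (hS : (ShortComplex.mk i p w).ShortExact) (P : Subobject E) :
    ∃ (a : (((Subobject.pullback i).obj P : Subobject K) : C) ⟶ (P : C))
      (b : (P : C) ⟶ (imageSubobject (P.arrow ≫ p) : C)) (z : a ≫ b = 0), (ShortComplex.mk a b z).ShortExact := by
  haveI : Mono i := hS.mono_f
  have hp := Subobject.isPullback i P
  haveI : Mono (Subobject.pullbackπ i P) := hp.mono_fst_of_mono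
  let q := factorThruImageSubobject (P.arrow ≫ p)
  have hz : Subobject.pullbackπ i P ≫ q = 0 := by
    rw [← cancel_mono (imageSubobject (P.arrow ≫ p)).arrow, Category.assoc, imageSubobject_arrow_comp, zero_comp,
      ← Category.assoc, hp.w, Category.assoc, w, comp_zero]
  refine ⟨_, q, hz, ShortComplex.ShortExact.mk' (ShortComplex.exact_of_f_is_kernel _
    (KernelFork.IsLimit.ofι' _ _ fun {T} a ha => ?_)) inferInstance inferInstance⟩
  have h0 : (a ≫ P.arrow) ≫ p = 0 := by
    calc (a ≫ P.arrow) ≫ p = a ≫ q ≫ (imageSubobject (P.arrow ≫ p)).arrow :=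
          (Category.assoc _ _ _).trans (congrArg (a ≫ ·) (imageSubobject_arrow_comp _).symm)
      _ = 0 := by rw [← Category.assoc, ha, zero_comp]
  let l := KernelFork.IsLimit.lift' hS.fIsKernel (a ≫ P.arrow) h0
  exact ⟨hp.lift a l.1 l.2.symm, hp.lift_fst _ _ _⟩

end Category

variable {X : Scheme.{u}} (k : Type u) [Field k] [X.Over (Spec (CommRingCat.of k))]
  [IsProper (X ↘ Spec (CommRingCat.of k))] [IsIntegral X] (hd : topologicalKrullDim X ≤ 1)
  {I : X.IdealSheafData} (hD : FGA.IsEffCartier I)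

include hd hD in
/-- The parabolic degree is additive on extensions of bundles. -/
theorem parDeg_additive {E K V : X.Modules} {n a b : ℕ} (hE : FlatMod.IsFinLocFreeOfRank n E)
    (hK : FlatMod.IsFinLocFreeOfRank a K) (hV : FlatMod.IsFinLocFreeOfRank b V)
    {i : K ⟶ E} {p : E ⟶ V} [Epi p] {w : i ≫ p = 0} (hS : (ShortComplex.mk i p w).ShortExact)
    (𝓔 : ParSh.Str E) (h𝓔 : 𝓔.Along I) :
    𝓔.parDeg k X n = (𝓔.induced i).parDeg k X a + (𝓔.coinduced p).parDeg k X b := by
  haveI := Euler.isNoetherian_of_proper (X := X) k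
  have hb : ParSh.twistSub I E = 𝓔.bot := h𝓔.symm
  have key : ∀ P : Subobject E, ParSh.twistSub I E ≤ P →
      (Curv2.euler k X (P : X.Modules) : ℝ) =
        (Curv2.euler k X (((Subobject.pullback i).obj P : Subobject K) : X.Modules) : ℝ) +
          Curv2.euler k X (imageSubobject (P.arrow ≫ p) : X.Modules) := by
    intro P hP
    obtain ⟨α, β, z, hT⟩ := exists_shortExact_pullback_image hS P
    obtain ⟨hPc, -⟩ := sub_data k hd hD hE hP
    obtain ⟨hAc, -⟩ := sub_data k hd hD hK ((twistSub_le_pullback I i).trans ((Subobject.pullback i).monotone hP))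
    obtain ⟨hBc, -⟩ := sub_data k hd hD hV
      ((imageSubobject_twistSub I p).ge.trans (imageSubobject_mono_le hP p))
    have e := Euler.euler_additive (S := ShortComplex.mk α β z) k hT hAc hPc hBc
    dsimp only at e
    exact_mod_cast e
  have hc : ∀ {M : X.Modules} {m : ℕ}, FlatMod.IsFinLocFreeOfRank m M → Coh.IsCoh M := fun h =>
    Euler.isCoh_of_isFinLocFree (FinCov.isFinLocFree_of_rank h)
  have hdeg := Euler.degree_additive (S := ShortComplex.mk i p w) k hS (hc hK) (hc hE) (hc hV)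
  dsimp only at hdeg
  rw [← Euler.deg_eq_degree k hK, ← Euler.deg_eq_degree k hE, ← Euler.deg_eq_degree k hV] at hdeg
  have hwt : 𝓔.parWt k X = (𝓔.induced i).parWt k X + (𝓔.coinduced p).parWt k X := by
    show _ = (∑ j : Fin (𝓔.l + 1), 𝓔.wt j * _) + (∑ j : Fin (𝓔.l + 1), 𝓔.wt j * _)
    rw [ParSh.Str.parWt, ← Finset.sum_add_distrib]
    refine Finset.sum_congr rfl fun j _ => ?_
    rw [key _ (hb ▸ 𝓔.bot_le j), key _ (hb ▸ 𝓔.bot_le_pieceX j.succ), ← pieceX_induced, ← pieceX_coinduced]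
    simp only [ParSh.Str.induced, ParSh.Str.coinduced]
    ring
  rw [ParSh.Str.parDeg, ParSh.Str.parDeg, ParSh.Str.parDeg, hwt, hdeg]
  push_cast
  ring

include k hd in
/-- Every subbundle sits in a saturated one of the same rank. -/
theorem exists_saturation_curve (hpid : ∀ x : X, IsPrincipalIdealRing (X.presheaf.stalk x))
    {V F : X.Modules} {n : ℕ} (hV : FlatMod.IsFinLocFreeOfRank n V) (hF : FlatMod.IsFinLocFree F)
    (j : V ⟶ F) [Mono j] :
    ∃ (V' : X.Modules) (u : V ⟶ V') (ι : V' ⟶ F), Mono u ∧ Mono ι ∧ u ≫ ι = j ∧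
      FlatMod.IsFinLocFreeOfRank n V' ∧ FlatMod.IsFinLocFree (cokernel ι) := by
  haveI := Euler.isNoetherian_of_proper (X := X) k
  have hVc := Euler.isCoh_of_isFinLocFree (FinCov.isFinLocFree_of_rank hV)
  have hFc := Euler.isCoh_of_isFinLocFree hF
  have hS := Euler.cokernel_shortExact j
  obtain ⟨T, Q, α, π, w, hT, hTc, hQc, hη, htf⟩ := Euler.exists_torsion_sequence (QCoh.isCoh_cokernel j hVc hFc)
  haveI := hT.epi_g
  let g := cokernel.π j ≫ π
  haveI : Epi g := inferInstanceAs (Epi (cokernel.π j ≫ π))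
  have hK : (ShortComplex.mk (kernel.ι g) g (kernel.condition g)).ShortExact :=
    ShortComplex.ShortExact.mk' (ShortComplex.exact_of_f_is_kernel _ (kernelIsKernel g)) inferInstance inferInstance
  have g1 := Euler.grank_additive hS hFc
  have g2 := Euler.grank_additive hT (QCoh.isCoh_cokernel j hVc hFc)
  have g3 := Euler.grank_additive hK hFc
  dsimp only at g1 g2 g3
  rw [Euler.grank_eq_zero_of_notMem hη] at g2
  rw [Euler.grank_of_locFree hV] at g1
  have hKr := Euler.isFinLocFreeOfRank_of_mono hpid (kernel.ι g) (QCoh.isCoh_kernel g hFc hQc) hF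
  rw [show grank (kernel g) = n by omega] at hKr
  have hQ := Euler.isFinLocFreeOfRank_of_torsionFree hpid hQc htf
  refine ⟨kernel g, kernel.lift g j (by rw [← Category.assoc, cokernel.condition, zero_comp]), kernel.ι g,
    mono_of_mono_fac (kernel.lift_ι _ _ _), inferInstance, kernel.lift_ι _ _ _, hKr, ?_⟩
  exact FinCov.isFinLocFree_of_rank (OX.isFinLocFreeOfRank_of_iso
    ((cokernelIsCokernel (kernel.ι g)).coconePointUniqueUpToIso hK.exact.gIsCokernel).symm hQ)

include hd hD in
/-- A parabolic extension of a stable bundle admits no parabolic map from the quotient to the sub. -/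
theorem parHom_eq_zero_of_stable (hpid : ∀ x : X, IsPrincipalIdealRing (X.presheaf.stalk x))
    {F F' F'' : X.Modules} {r : ℕ} (hF : FlatMod.IsFinLocFreeOfRank r F)
    (𝓕 : ParSh.Str F) (h𝓕 : 𝓕.Along I) (hst : ParSh.IsParStable k X 𝓕 r)
    {i : F' ⟶ F} {p : F ⟶ F''} [Epi p] {w : i ≫ p = 0} (hS : (ShortComplex.mk i p w).ShortExact)
    (hF' : FlatMod.IsFinLocFree F') (hF'' : FlatMod.IsFinLocFree F'') (φ : F'' ⟶ F')
    (hφ : ParSh.IsParHom (𝓕.coinduced p) (𝓕.induced i) φ) : φ = 0 := by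
  by_contra hne
  haveI := Euler.isNoetherian_of_proper (X := X) k
  haveI : Mono i := hS.mono_f
  have hFl := FinCov.isFinLocFree_of_rank hF
  have hFc := Euler.isCoh_of_isFinLocFree hFl
  have hg := Euler.grank_additive hS hFc
  dsimp only at hg
  rw [Euler.grank_of_locFree hF] at hg
  obtain ⟨K₀, V, a, p', j, rK, rV, -, hp', hj, hfac, -, -, hV, hrank, -, h0, -⟩ :=
    Euler.exists_image_data k hpid hF'' hF' φ
  haveI := hp'
  haveI := hj
  have hrV0 : 0 < rV := Nat.pos_of_ne_zero fun h => hne (h0 h)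
  have hrV1 : rV ≤ grank F' := by
    rw [← Euler.grank_of_locFree hV]; exact Euler.grank_le_of_mono j (Euler.isCoh_of_isFinLocFree hF')
  have hrV : rV < r := by omega
  obtain ⟨V', u, ι, hu, hι, huι, hV', hsat⟩ := exists_saturation_curve k hd hpid hV hFl (j ≫ i)
  haveI := hu
  haveI := hι
  let q := p ≫ p'
  haveI : Epi q := inferInstanceAs (Epi (p ≫ p'))
  have hpar : ParSh.IsParHom 𝓕 𝓕 (q ≫ u ≫ ι) := by
    rw [huι, show q ≫ j ≫ i = p ≫ φ ≫ i by simp only [q, Category.assoc, reassoc_of% hfac]]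
    exact isParHom_coinduced p (isParHom_pullback i hφ)
  have hle := parDeg_coinduced_le_induced k hd hD hpid hF hV hV' 𝓕 h𝓕 𝓕 h𝓕 q u ι hpar hsat
  have hK := Euler.kernel_shortExact q
  have hKc : Coh.IsCoh (kernel q) :=
    QCoh.isCoh_kernel q hFc (Euler.isCoh_of_isFinLocFree (FinCov.isFinLocFree_of_rank hV))
  have hg2 := Euler.grank_additive hK hFc
  dsimp only at hg2
  rw [Euler.grank_of_locFree hF, Euler.grank_of_locFree hV] at hg2
  have hKr := Euler.isFinLocFreeOfRank_of_mono hpid (kernel.ι q) hKc hFl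
  have hadd := parDeg_additive k hd hD hF hKr hV hK 𝓕 h𝓕
  have h1 := hst (kernel q) _ (kernel.ι q) inferInstance (by omega) (by omega) hKr
  have h2 := hst V' rV ι inferInstance hrV0 hrV hV'
  have h3 : (r : ℝ) = (grank (kernel q) : ℝ) + rV := by exact_mod_cast hg2
  have h4 : (𝓕.coinduced q).parDeg k X rV * (r : ℝ) ≤ (𝓕.induced ι).parDeg k X rV * (r : ℝ) :=
    mul_le_mul_of_nonneg_right hle (Nat.cast_nonneg r)
  rw [h3] at h1 h2 h4
  rw [hadd] at h1 h2
  nlinarith [h1, h2, h4]

end GrothLib.ParHilb
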