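import Groth.Agent.Lib.Hilb20.Stable
import Groth.Agent.Lib.Hilb20.Slope
import Groth.Agent.Lib.Hilb20.SlopeCoh
import Groth.Agent.Lib.HodgeIndex.Walls
import Groth.Prelude.Def_ParBun
import Groth.Prelude.Def_W4swparbununimodPar

/-!
# Parabolic Hilbert polynomials: quotients by pieces, telescoping, comparison
-/

set_option autoImplicit false
set_option linter.all false

universe u

open CategoryTheory CategoryTheory.Limits AlgebraicGeometry TopologicalSpace Polynomial

noncomputable section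

namespace GrothLib.ParHilb

open GrothLib.Snapper (DimLT)
open GrothLib.Hilb20
open GrothLib.QCoh (stalkLin)
open W4swparbununimod (rpoly parPoly)

variable {X : Scheme.{u}}

theorem dimLT_of_dim_lt {S : Set X} {d : ℕ} (h : topologicalKrullDim S < (d : WithBot ℕ∞)) : DimLT S d :=
  fun l hl => by
    have := (Snapper.length_le_dim S l hl).trans_lt h
    exact_mod_cast this

theorem support_cokernel_twistMap (I : X.IdealSheafData) (E : X.Modules) :
    CohB1.support (cokernel (ParSh.twistMap I E)) ⊆ CohB1.support E ∩ (I.support : Set X) := by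
  refine fun x hx => ⟨QCoh.support_subset_of_epi (cokernel.π _) hx, ?_⟩
  by_contra hxI
  let V : X.Opens := ⟨(I.support : Set X)ᶜ, I.support.isClosed.isOpen_compl⟩
  have hiso : Kodaira.IsoOn V (ParSh.twistMap I E) := by
    rw [ParSh.twistMap, ← KoszTw.tensorBi_obj_map]
    haveI := (SecTwist.unitorR E).isIso_hom
    exact ((HodgeIndex.isoOn_of_bijective _ V fun y hy =>
      HodgeIndex.stalk_bijective_idealModι I hy).tensor_left E).comp (@Kodaira.isoOn_of_iso _ V _ _ _ (SecTwist.unitorR E).isIso_hom)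
  exact QCoh.notMem_support_cokernel_of_surjective _ (hiso.stalk_bijective (show x ∈ V from hxI)).2 hx

theorem support_cokernel_of_twistSub_le {I : X.IdealSheafData} {E : X.Modules} {P : Subobject E}
    (h : ParSh.twistSub I E ≤ P) :
    CohB1.support (cokernel P.arrow) ⊆ CohB1.support E ∩ (I.support : Set X) := by
  let r : cokernel (ParSh.twistMap I E) ⟶ cokernel P.arrow := cokernel.desc _ (cokernel.π P.arrow) (by
    rw [← imageSubobject_arrow_comp (ParSh.twistMap I E), Category.assoc,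
      ← Subobject.ofLE_arrow (show imageSubobject (ParSh.twistMap I E) ≤ P from h), Category.assoc,
      cokernel.condition, Limits.comp_zero, Limits.comp_zero])
  haveI : Epi r := epi_of_epi_fac (cokernel.π_desc _ _ _)
  exact (QCoh.support_subset_of_epi r).trans (support_cokernel_twistMap I E)

theorem support_cokernel_pieceX {I : X.IdealSheafData} {E : X.Modules} (𝓔 : ParSh.Str E) (h : 𝓔.Along I)
    (j : Fin (𝓔.l + 2)) :
    CohB1.support (cokernel (𝓔.pieceX j).arrow) ⊆ CohB1.support E ∩ (I.support : Set X) :=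
  support_cokernel_of_twistSub_le (h ▸ 𝓔.bot_le_pieceX j)

variable {k : Type u} [Field k] [X.Over (Spec (CommRingCat.of k))] [IsProper (X ↘ Spec (CommRingCat.of k))]

variable (k) in
include k in
theorem isCoh_cokernel_arrow {E : X.Modules} (hE : Coh.IsCoh E) {P : Subobject E}
    (hP : Coh.IsCoh (P : X.Modules)) : Coh.IsCoh (cokernel P.arrow) := by
  haveI := Euler.isNoetherian_of_proper (X := X) k
  exact QCoh.isCoh_cokernel _ hP hE

theorem poly_eq_add {L E : X.Modules} (hL : CohB1.IsAmple L) (hE : Coh.IsCoh E) {P : Subobject E}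
    (hP : Coh.IsCoh (P : X.Modules)) {p q r : ℚ[X]} (hp : ShStab.IsHilbPoly k X L E p)
    (hq : ShStab.IsHilbPoly k X L (P : X.Modules) q) (hr : ShStab.IsHilbPoly k X L (cokernel P.arrow) r) :
    p = q + r := by
  obtain ⟨_, _, pC, hpC, e⟩ := exists_quotient_poly hL hP hE P.arrow hq hp
  rw [e, isHilbPoly_unique hr hpC]

theorem pieceX_zero {E : X.Modules} (𝓔 : ParSh.Str E) : 𝓔.pieceX 0 = ⊤ := by
  rw [← Fin.castSucc_zero, 𝓔.pieceX_castSucc, 𝓔.piece_zero]

theorem poly_zero {L E : X.Modules} (𝓔 : ParSh.Str E) {p : ℚ[X]} (hp : ShStab.IsHilbPoly k X L E p)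
    {q : ℚ[X]} (hq : ShStab.IsHilbPoly k X L (𝓔.pieceX 0 : X.Modules) q) : q = p := by
  rw [pieceX_zero] at hq
  haveI : IsIso (⊤ : Subobject E).arrow := Subobject.isIso_arrow_iff_eq_top _ |>.2 rfl
  exact isHilbPoly_unique (isHilbPoly_congr (asIso (⊤ : Subobject E).arrow) hq) hp

theorem telescope {R : Type*} [CommRing R] {n : ℕ} (w H : Fin (n + 2) → R) (h0 : H 0 = 0)
    (hw : w (Fin.last (n + 1)) = 1) :
    ∑ j : Fin (n + 1), w j.castSucc * (H j.succ - H j.castSucc) - H (Fin.last (n + 1)) =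
      -∑ j : Fin (n + 1), (w j.succ - w j.castSucc) * H j.succ := by
  have h1 := Fin.sum_univ_succ fun i => w i * H i
  have h2 := Fin.sum_univ_castSucc fun i => w i * H i
  simp only [sub_mul, mul_sub, Finset.sum_sub_distrib, h0, hw, mul_zero, zero_add, one_mul] at h1 h2 ⊢
  linear_combination h2 - h1

/-- The parabolic Hilbert polynomial is the Hilbert polynomial minus weighted quotient polynomials. -/
theorem parPoly_eq {L E : X.Modules} (hL : CohB1.IsAmple L) (hE : Coh.IsCoh E) (𝓔 : ParSh.Str E)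
    (hcoh : ∀ j, Coh.IsCoh ((𝓔.pieceX j : Subobject E) : X.Modules)) {P : ℚ[X]}
    (hP : ShStab.IsHilbPoly k X L E P) {PX : Fin (𝓔.l + 2) → ℚ[X]}
    (hPX : ∀ j, ShStab.IsHilbPoly k X L ((𝓔.pieceX j : Subobject E) : X.Modules) (PX j))
    {H : Fin (𝓔.l + 2) → ℚ[X]} (hH : ∀ j, ShStab.IsHilbPoly k X L (cokernel (𝓔.pieceX j).arrow) (H j)) :
    parPoly 𝓔 PX =
      rpoly P - ∑ j : Fin (𝓔.l + 1), Polynomial.C (𝓔.wtX j.succ - 𝓔.wtX j.castSucc) * rpoly (H j.succ) := by
  have e : ∀ j, rpoly (PX j) = rpoly P - rpoly (H j) := fun j => by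
    rw [poly_eq_add hL hE (hcoh j) hP (hPX j) (hH j)]
    simp [rpoly]
  have h0 : rpoly (H 0) = 0 := by
    have := e 0
    rw [poly_zero 𝓔 hP (hPX 0)] at this
    linear_combination this
  have h := telescope (fun i => Polynomial.C (𝓔.wtX i)) (fun i => rpoly (H i)) h0 (by simp)
  simp only [← map_sub, 𝓔.wtX_castSucc] at h
  simp only [parPoly, e, 𝓔.wtX_castSucc, sub_sub_sub_cancel_left]
  linear_combination h

theorem exists_hilbPolys {L E : X.Modules} (hL : CohB1.IsAmple L) (hE : Coh.IsCoh E) (𝓔 : ParSh.Str E)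
    (hcoh : ∀ j, Coh.IsCoh ((𝓔.pieceX j : Subobject E) : X.Modules)) :
    ∃ PX H : Fin (𝓔.l + 2) → ℚ[X],
      (∀ j, ShStab.IsHilbPoly k X L ((𝓔.pieceX j : Subobject E) : X.Modules) (PX j)) ∧
      ∀ j, ShStab.IsHilbPoly k X L (cokernel (𝓔.pieceX j).arrow) (H j) :=
  ⟨_, _, fun j => isHilbPoly_hp k hL (hcoh j), fun j => isHilbPoly_hp k hL (isCoh_cokernel_arrow k hE (hcoh j))⟩

omit [IsProper (X ↘ Spec (CommRingCat.of k))] in
theorem parHilb_eq {L E : X.Modules} (𝓔 : ParSh.Str E) {PX : Fin (𝓔.l + 2) → ℚ[X]}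
    (hPX : ∀ j, ShStab.IsHilbPoly k X L ((𝓔.pieceX j : Subobject E) : X.Modules) (PX j)) (m : ℕ) :
    𝓔.parHilb k X L m = (parPoly 𝓔 PX).eval (m : ℝ) := by
  have hv : ∀ p : ℚ[X], (rpoly p).eval (m : ℝ) = ((p.eval (m : ℚ) : ℚ) : ℝ) := fun p => by
    rw [show (m : ℝ) = Rat.castHom ℝ (m : ℚ) by simp, Polynomial.eval_map, Polynomial.eval₂_hom]
    rfl
  have e : ∀ j, (Curv2.euler k X (ShStab.twist X L (𝓔.pieceX j : X.Modules) m) : ℝ) =
      (rpoly (PX j)).eval (m : ℝ) := fun j => by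
    rw [hv, ← hPX j m]; simp
  rw [ParSh.Str.parHilb, ParSh.Str.parSum, parPoly, Polynomial.eval_add, Polynomial.eval_finsetSum]
  congr 1
  · rw [← e, ParSh.Str.pieceX_last]
  · refine Finset.sum_congr rfl fun j _ => ?_
    rw [Polynomial.eval_mul, Polynomial.eval_C, Polynomial.eval_sub, ← e, ← e, ParSh.Str.pieceX_castSucc]

theorem coeff_quotient_eq_zero {L E : X.Modules} (hL : CohB1.IsAmple L) (hE : Coh.IsCoh E) {I : X.IdealSheafData}
    (𝓔 : ParSh.Str E) (h𝓔 : 𝓔.Along I) (hcoh : ∀ j, Coh.IsCoh ((𝓔.pieceX j : Subobject E) : X.Modules))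
    {d : ℕ} (hsupp : topologicalKrullDim ↥(CohB1.support E ∩ (I.support : Set X)) < (d : WithBot ℕ∞))
    {H : Fin (𝓔.l + 2) → ℚ[X]} (hH : ∀ j, ShStab.IsHilbPoly k X L (cokernel (𝓔.pieceX j).arrow) (H j))
    (j : Fin (𝓔.l + 2)) (n : ℕ) (hn : d ≤ n) : (H j).coeff n = 0 :=
  coeff_eq_zero_of_dimLT hL.1 (isCoh_cokernel_arrow k hE (hcoh j))
    ((dimLT_of_dim_lt hsupp).mono (support_cokernel_pieceX 𝓔 h𝓔 j)) (hH j) hn

/-- In degrees at least `d` the parabolic polynomial has the coefficients of the Hilbert polynomial. -/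
theorem coeff_parPoly {L E : X.Modules} (hL : CohB1.IsAmple L) (hE : Coh.IsCoh E) {I : X.IdealSheafData}
    (𝓔 : ParSh.Str E) (h𝓔 : 𝓔.Along I) (hcoh : ∀ j, Coh.IsCoh ((𝓔.pieceX j : Subobject E) : X.Modules))
    {d : ℕ} (hsupp : topologicalKrullDim ↥(CohB1.support E ∩ (I.support : Set X)) < (d : WithBot ℕ∞))
    {P : ℚ[X]} (hP : ShStab.IsHilbPoly k X L E P) {PX : Fin (𝓔.l + 2) → ℚ[X]}
    (hPX : ∀ j, ShStab.IsHilbPoly k X L ((𝓔.pieceX j : Subobject E) : X.Modules) (PX j))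
    (n : ℕ) (hn : d ≤ n) : (parPoly 𝓔 PX).coeff n = (rpoly P).coeff n := by
  obtain ⟨_, H, _, hH⟩ := exists_hilbPolys (k := k) hL hE 𝓔 hcoh
  rw [parPoly_eq hL hE 𝓔 hcoh hP hPX hH, Polynomial.coeff_sub, Polynomial.finsetSum_coeff]
  refine sub_eq_self.2 (Finset.sum_eq_zero fun j _ => ?_)
  rw [Polynomial.coeff_C_mul, Polynomial.coeff_map, coeff_quotient_eq_zero hL hE 𝓔 h𝓔 hcoh hsupp hH _ n hn, map_zero, mul_zero]

end GrothLib.ParHilb

namespace GrothLib.ParHilb

open GrothLib.Snapper (DimLT)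
open GrothLib.Hilb20
open W4swparbununimod (rpoly parPoly)

variable {X : Scheme.{u}} {k : Type u} [Field k] [X.Over (Spec (CommRingCat.of k))]
  [IsProper (X ↘ Spec (CommRingCat.of k))]

theorem coeff_pred_nonneg {L F : X.Modules} (hL : CohB1.IsAmple L) (hF : Coh.IsCoh F) {d : ℕ} (hd : 1 ≤ d)
    (hF' : DimLT (CohB1.support F) d) {P : ℚ[X]} (hP : ShStab.IsHilbPoly k X L F P) : 0 ≤ P.coeff (d - 1) :=
  (coeffPos (d - 1) X L F hL hF (by rwa [Nat.sub_add_cancel hd]) P hP).1

/-- Quotients by larger submodules have smaller leading coefficient. -/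
theorem coeff_quotient_le {L E : X.Modules} (hL : CohB1.IsAmple L) (hE : Coh.IsCoh E) {P Q : Subobject E}
    (hPQ : P ≤ Q) (hP : Coh.IsCoh (P : X.Modules)) (hQ : Coh.IsCoh (Q : X.Modules)) {d : ℕ} (hd : 1 ≤ d)
    (hs : DimLT (CohB1.support (cokernel P.arrow)) d) {p q : ℚ[X]}
    (hp : ShStab.IsHilbPoly k X L (cokernel P.arrow) p) (hq : ShStab.IsHilbPoly k X L (cokernel Q.arrow) q) :
    q.coeff (d - 1) ≤ p.coeff (d - 1) := by
  haveI := Euler.isNoetherian_of_proper (X := X) k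
  let r : cokernel P.arrow ⟶ cokernel Q.arrow := cokernel.desc _ (cokernel.π Q.arrow) (by
    rw [← Subobject.ofLE_arrow hPQ, Category.assoc, cokernel.condition, Limits.comp_zero])
  haveI : Epi r := epi_of_epi_fac (cokernel.π_desc _ _ _)
  have hCP := isCoh_cokernel_arrow k hE hP
  have hCQ := isCoh_cokernel_arrow k hE hQ
  have hK := QCoh.isCoh_kernel r hCP hCQ
  let S := ShortComplex.mk (kernel.ι r) r (kernel.condition r)
  have hS : S.ShortExact := ShortComplex.ShortExact.mk'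
    (ShortComplex.exact_of_f_is_kernel S (kernelIsKernel r)) inferInstance inferInstance
  rw [eq_add_of_shortExact (k := k) hL.1 hS hK hCP hCQ (isHilbPoly_hp k hL hK) hp hq, Polynomial.coeff_add]
  have := coeff_pred_nonneg hL hK hd (hs.mono (QCoh.support_subset_of_mono (kernel.ι r))) (isHilbPoly_hp k hL hK)
  linarith

end GrothLib.ParHilb
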