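import Groth.Agent.Lib.ParHilb.Basic
import Mathlib.Analysis.SpecificLimits.Basic

/-!
# Induced filtrations on submodules; comparison of polynomials at large arguments
-/

set_option autoImplicit false
set_option linter.all false

universe u

open CategoryTheory CategoryTheory.Limits AlgebraicGeometry TopologicalSpace Polynomial Filter

noncomputable section

namespace GrothLib.ParHilb

open GrothLib.Snapper (DimLT)
open GrothLib.Hilb20
open W4swparbununimod (rpoly parPoly)

variable {X : Scheme.{u}} {E W : X.Modules}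

theorem pullback_eq_kernel (ι : W ⟶ E) (P : Subobject E) :
    (Subobject.pullback ι).obj P = Subobject.mk (kernel.ι (ι ≫ cokernel.π P.arrow)) := by
  have hp := Subobject.isPullback ι P
  refine le_antisymm (Subobject.le_mk_of_comm (kernel.lift _ ((Subobject.pullback ι).obj P).arrow ?_)
    (kernel.lift_ι _ _ _)) ?_
  · rw [← Category.assoc, ← hp.w, Category.assoc, cokernel.condition, Limits.comp_zero]
  · let l := KernelFork.IsLimit.lift' (Abelian.monoIsKernelOfCokernel _ (colimit.isColimit (parallelPair P.arrow 0)))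
      (kernel.ι (ι ≫ cokernel.π P.arrow) ≫ ι) (by
        show (kernel.ι (ι ≫ cokernel.π P.arrow) ≫ ι) ≫ cokernel.π P.arrow = 0
        rw [Category.assoc, kernel.condition])
    exact Subobject.mk_le_of_comm (hp.lift l.1 (kernel.ι _) l.2) (hp.lift_snd _ _ _)

/-- The quotient of a submodule by an intersection embeds in the big quotient. -/
def cokernelPullbackIso (ι : W ⟶ E) (P : Subobject E) :
    cokernel ((Subobject.pullback ι).obj P).arrow ≅ Abelian.coimage (ι ≫ cokernel.π P.arrow) :=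
  cokernelIsoOfEq (f := ((Subobject.pullback ι).obj P).arrow)
      (g := ((Subobject.isoOfEq _ _ (pullback_eq_kernel ι P)) ≪≫ Subobject.underlyingIso _).hom ≫
        kernel.ι (ι ≫ cokernel.π P.arrow)) (by simp) ≪≫ cokernelEpiComp _ _

theorem support_cokernel_pullback (ι : W ⟶ E) (P : Subobject E) :
    CohB1.support (cokernel ((Subobject.pullback ι).obj P).arrow) ⊆ CohB1.support (cokernel P.arrow) := by
  rw [QCoh.support_eq_of_iso (cokernelPullbackIso ι P)]
  exact QCoh.support_subset_of_mono (Abelian.factorThruCoimage (ι ≫ cokernel.π P.arrow))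

theorem pieceX_induced (𝓔 : ParSh.Str E) (ι : W ⟶ E) (j : Fin (𝓔.l + 2)) :
    (𝓔.induced ι).pieceX j = (Subobject.pullback ι).obj (𝓔.pieceX j) := by
  induction j using Fin.lastCases with
  | last => rw [𝓔.pieceX_last]; exact (𝓔.induced ι).pieceX_last
  | cast i => rw [𝓔.pieceX_castSucc]; exact (𝓔.induced ι).pieceX_castSucc i

theorem wtX_induced (𝓔 : ParSh.Str E) (ι : W ⟶ E) (j : Fin (𝓔.l + 2)) :
    (𝓔.induced ι).wtX j = 𝓔.wtX j := rfl

theorem support_cokernel_induced {I : X.IdealSheafData} (𝓔 : ParSh.Str E) (h : 𝓔.Along I) (ι : W ⟶ E)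
    (j : Fin (𝓔.l + 2)) :
    CohB1.support (cokernel ((𝓔.induced ι).pieceX j).arrow) ⊆ CohB1.support E ∩ (I.support : Set X) := by
  rw [pieceX_induced]
  exact (support_cokernel_pullback ι _).trans (support_cokernel_pieceX 𝓔 h j)

variable {k : Type u} [Field k] [X.Over (Spec (CommRingCat.of k))] [IsProper (X ↘ Spec (CommRingCat.of k))]

variable (k) in
include k in
theorem isCoh_pullback (ι : W ⟶ E) (hW : Coh.IsCoh W) (hE : Coh.IsCoh E) {P : Subobject E}
    (hP : Coh.IsCoh (P : X.Modules)) : Coh.IsCoh (((Subobject.pullback ι).obj P : Subobject W) : X.Modules) := by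
  haveI := Euler.isNoetherian_of_proper (X := X) k
  exact QCoh.isCoh_of_iso (Subobject.isoOfEq _ _ (pullback_eq_kernel ι P) ≪≫ Subobject.underlyingIso _).symm
    (QCoh.isCoh_kernel _ hW (isCoh_cokernel_arrow k hE hP))

variable (k) in
include k in
theorem isCoh_induced (𝓔 : ParSh.Str E) (ι : W ⟶ E) (hW : Coh.IsCoh W) (hE : Coh.IsCoh E)
    (hcoh : ∀ j, Coh.IsCoh ((𝓔.pieceX j : Subobject E) : X.Modules)) (j : Fin (𝓔.l + 2)) :
    Coh.IsCoh (((𝓔.induced ι).pieceX j : Subobject W) : X.Modules) := by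
  rw [pieceX_induced]
  exact isCoh_pullback k ι hW hE (hcoh j)

theorem dimLT_cokernel_induced {I : X.IdealSheafData} (𝓔 : ParSh.Str E) (h : 𝓔.Along I) (ι : W ⟶ E)
    {d : ℕ} (hsupp : topologicalKrullDim ↥(CohB1.support E ∩ (I.support : Set X)) < (d : WithBot ℕ∞))
    (j : Fin (𝓔.l + 2)) : DimLT (CohB1.support (cokernel ((𝓔.induced ι).pieceX j).arrow)) d :=
  (dimLT_of_dim_lt hsupp).mono (support_cokernel_induced 𝓔 h ι j)

theorem coeff_parPoly_induced {L : X.Modules} (hL : CohB1.IsAmple L) (hE : Coh.IsCoh E) (hW : Coh.IsCoh W)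
    {I : X.IdealSheafData} (𝓔 : ParSh.Str E) (h : 𝓔.Along I)
    (hcoh : ∀ j, Coh.IsCoh ((𝓔.pieceX j : Subobject E) : X.Modules)) (ι : W ⟶ E) {d : ℕ}
    (hsupp : topologicalKrullDim ↥(CohB1.support E ∩ (I.support : Set X)) < (d : WithBot ℕ∞))
    {Q : ℚ[X]} (hQ : ShStab.IsHilbPoly k X L W Q) {QX : Fin (𝓔.l + 2) → ℚ[X]}
    (hQX : ∀ j, ShStab.IsHilbPoly k X L (((𝓔.induced ι).pieceX j : Subobject W) : X.Modules) (QX j))
    (n : ℕ) (hn : d ≤ n) : (parPoly (𝓔.induced ι) QX).coeff n = (rpoly Q).coeff n := by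
  obtain ⟨_, K, _, hK⟩ := exists_hilbPolys (k := k) hL hW (𝓔.induced ι) (isCoh_induced k 𝓔 ι hW hE hcoh)
  rw [parPoly_eq hL hW (𝓔.induced ι) (isCoh_induced k 𝓔 ι hW hE hcoh) hQ hQX hK, Polynomial.coeff_sub,
    Polynomial.finsetSum_coeff]
  refine sub_eq_self.2 (Finset.sum_eq_zero fun j _ => ?_)
  rw [Polynomial.coeff_C_mul, Polynomial.coeff_map,
    coeff_eq_zero_of_dimLT hL.1 (isCoh_cokernel_arrow k hW (isCoh_induced k 𝓔 ι hW hE hcoh _))
      (dimLT_cokernel_induced 𝓔 h ι hsupp _) (hK _) hn, map_zero, mul_zero]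

/-! ### large arguments -/

theorem tendsto_eval_div_pow {p : ℝ[X]} {e : ℕ} (h : ∀ i, e < i → p.coeff i = 0) :
    Tendsto (fun m : ℕ => p.eval (m : ℝ) / (m : ℝ) ^ e) atTop (nhds (p.coeff e)) := by
  have hd : p.natDegree < e + 1 := Nat.lt_succ_iff.2 (natDegree_le_iff_coeff_eq_zero.2 h)
  have h1 : ∀ i ∈ Finset.range (e + 1),
      Tendsto (fun m : ℕ => p.coeff i * (m : ℝ) ^ i / (m : ℝ) ^ e) atTop (nhds (if i = e then p.coeff i else 0)) := by
    intro i hi
    rw [Finset.mem_range] at hi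
    split_ifs with he
    · subst he
      refine tendsto_const_nhds.congr' ?_
      filter_upwards [eventually_ge_atTop 1] with m hm
      have : (m : ℝ) ≠ 0 := by positivity
      field_simp
    · obtain ⟨c, rfl⟩ : ∃ c, e = i + (c + 1) := ⟨e - i - 1, by omega⟩
      refine (tendsto_const_nhds.div_atTop (a := p.coeff i)
        ((tendsto_pow_atTop (Nat.succ_ne_zero c)).comp tendsto_natCast_atTop_atTop)).congr' ?_
      filter_upwards [eventually_ge_atTop 1] with m hm
      have : (m : ℝ) ≠ 0 := by positivity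
      simp only [Function.comp_apply, pow_add, Nat.succ_eq_add_one, pow_succ]
      field_simp
  have h2 := tendsto_finsetSum _ h1
  rw [Finset.sum_ite_eq' (Finset.range (e + 1)) e, if_pos (Finset.self_mem_range_succ e)] at h2
  refine h2.congr fun m => ?_
  rw [eval_eq_sum_range' hd, Finset.sum_div]

theorem coeff_nonpos_of_eventually {p : ℝ[X]} {e : ℕ} (h : ∀ i, e < i → p.coeff i = 0) {M : ℕ}
    (hM : ∀ m : ℕ, M ≤ m → p.eval (m : ℝ) ≤ 0) : p.coeff e ≤ 0 :=
  le_of_tendsto (tendsto_eval_div_pow h) (by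
    filter_upwards [eventually_ge_atTop M] with m hm
    exact div_nonpos_of_nonpos_of_nonneg (hM m hm) (by positivity))

theorem eventually_eval_neg {p : ℝ[X]} {e : ℕ} (h : ∀ i, e < i → p.coeff i = 0) (hc : p.coeff e < 0) :
    ∃ M : ℕ, ∀ m : ℕ, M ≤ m → p.eval (m : ℝ) < 0 := by
  obtain ⟨M, hM⟩ := eventually_atTop.1 ((tendsto_eval_div_pow h).eventually (gt_mem_nhds hc))
  refine ⟨max M 1, fun m hm => ?_⟩
  have hp : (0 : ℝ) < (m : ℝ) ^ e := by
    have : (0 : ℝ) < (m : ℝ) := by exact_mod_cast (show 0 < m by omega)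
    positivity
  exact (div_lt_iff₀ hp).1 (hM m (by omega)) |>.trans_eq (zero_mul _)

theorem tendsto_rat_eval_div_pow {p : ℚ[X]} {e : ℕ} (h : ∀ i, e < i → p.coeff i = 0) :
    Tendsto (fun m : ℕ => ((p.eval (m : ℚ) : ℚ) : ℝ) / (m : ℝ) ^ e) atTop (nhds (p.coeff e : ℝ)) := by
  have h' := tendsto_eval_div_pow (p := rpoly p) (e := e) fun i hi => by
    rw [Polynomial.coeff_map, h i hi, map_zero]
  rw [Polynomial.coeff_map] at h'
  refine h'.congr fun m => ?_
  rw [show (m : ℝ) = Rat.castHom ℝ (m : ℚ) by simp, Polynomial.eval_map, Polynomial.eval₂_hom]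
  rfl

end GrothLib.ParHilb
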