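import Groth.Agent.Lib.ParHilb.GPHom
import Groth.Agent.Lib.ParHilb.Sub
import Groth.Agent.Lib.Euler.TensorSupport
import Groth.Agent.Lib.Euler.Slope2
import Groth.Agent.Lib.QCoh.AvoidSub
import Groth.Agent.Lib.FinCov.FrameFree
import Groth.Agent.Lib.OX.FlatLocFree
import Mathlib.MeasureTheory.Integral.Bochner.Set
import Mathlib.MeasureTheory.Measure.Lebesgue.Basic

/-!
# Parabolic degrees on curves: arbitrary subsheaves above `E(-D)`
-/

set_option autoImplicit false
set_option linter.all false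
set_option backward.isDefEq.respectTransparency false

universe u

open CategoryTheory CategoryTheory.Limits AlgebraicGeometry TopologicalSpace Opposite

noncomputable section

namespace GrothLib.ParHilb

open GrothLib.Euler (tF grank)
open GrothLib.QCoh (stalkLin)

variable {X : Scheme.{u}}

/-- A submodule of a coherent module supported on finitely many closed points is coherent. -/
theorem isCoh_of_mono_finite_support [IsLocallyNoetherian X] {N M : X.Modules} (i : N ⟶ M) [Mono i]
    (hM : Coh.IsCoh M) (hfin : (CohB1.support M).Finite)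
    (hcl : ∀ x ∈ CohB1.support M, IsClosed ({x} : Set X)) : Coh.IsCoh N := by
  classical
  have hfN := hfin.subset (QCoh.support_subset_of_mono i)
  have hcN : ∀ x ∈ CohB1.support N, IsClosed ({x} : Set X) := fun x hx => hcl x (QCoh.support_subset_of_mono i hx)
  obtain ⟨n, m, hm⟩ : ∃ (n : ℕ) (m : Fin n → Γ(N, ⊤)), ∀ y : X,
      Submodule.span (X.presheaf.stalk y) (Set.range fun j => N.presheaf.germ ⊤ y trivial (m j)) = ⊤ := by
    have hfg : ∀ y : CohB1.support N, ∃ s : Finset (N.presheaf.stalk (y : X)),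
        Submodule.span (X.presheaf.stalk (y : X)) (s : Set (N.presheaf.stalk (y : X))) = ⊤ := fun y => by
      haveI := QCoh.stalk_finite M hM (y : X)
      haveI : IsNoetherianRing (X.presheaf.stalk (y : X)) := inferInstance
      haveI : Module.Finite (X.presheaf.stalk (y : X)) (N.presheaf.stalk (y : X)) :=
        Module.Finite.of_injective (stalkLin i (y : X)) (QCoh.stalkLin_injective i _)
      exact Module.Finite.fg_top
    choose s hs using hfg
    haveI : Fintype (CohB1.support N) := hfN.fintype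
    let J := (y : CohB1.support N) × (s y)
    let e := Fintype.equivFin J
    choose sec hsec using fun j : J => (Euler.bijective_germs N hfN hcN).2 (Pi.single j.1 (j.2 : N.presheaf.stalk (j.1 : X)))
    refine ⟨_, sec ∘ e.symm, fun y => ?_⟩
    by_cases hy : y ∈ CohB1.support N
    · rw [eq_top_iff, ← hs ⟨y, hy⟩]
      refine Submodule.span_mono fun t ht => ⟨e ⟨⟨y, hy⟩, ⟨t, ht⟩⟩, ?_⟩
      have := congrFun (hsec ⟨⟨y, hy⟩, ⟨t, ht⟩⟩) ⟨y, hy⟩
      simp only [Function.comp_apply, Equiv.symm_apply_apply]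
      exact this.trans (Pi.single_eq_same (M := fun z : CohB1.support N => N.presheaf.stalk (z : X)) _ _)
    · haveI := QCoh.stalk_subsingleton_of_notMem hy
      exact Subsingleton.elim _ _
  let Φ : FlatMod.freeMod X n ⟶ N := Sigma.desc fun j => FinCov.homOfSection (m j)
  haveI : Epi Φ := by
    refine (OX.epi_iff _).2 fun y => (ModuleCat.epi_iff_surjective _).2 ?_
    have h : LinearMap.range (stalkLin Φ y) = ⊤ := by
      rw [eq_top_iff, ← hm y, Submodule.span_le]
      rintro _ ⟨j, rfl⟩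
      refine ⟨stalkLin (Sigma.ι (fun _ : Fin n => Coh.structureModule X) j) y
        ((Coh.structureModule X).presheaf.germ ⊤ y trivial (FinCov.one X ⊤)), ?_⟩
      rw [← QCoh.stalkLin_comp]
      rw [show Sigma.ι (fun _ : Fin n => Coh.structureModule X) j ≫ Φ = FinCov.homOfSection (m j) from Sigma.ι_desc _ _]
      rw [QCoh.stalkLin_germ, FinCov.homOfSection_one]
      exact congrArg (N.presheaf.germ ⊤ y trivial) (ConcreteCategory.congr_hom (N.presheaf.map_id (op ⊤)) (m j))
    exact LinearMap.range_eq_top.1 h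
  have hF : Coh.IsCoh (FlatMod.freeMod X n) := Euler.isCoh_of_isFinLocFree (OX.isFinLocFree_freeMod X n)
  have e1 : kernel (Φ ≫ i) ≅ kernel Φ := kernelCompMono Φ i
  have hK : Coh.IsCoh (kernel Φ) := QCoh.isCoh_of_iso e1 (QCoh.isCoh_kernel _ hF hM)
  exact QCoh.isCoh_of_iso
    (IsColimit.coconePointUniqueUpToIso (cokernelIsCokernel (kernel.ι Φ))
      (ShortComplex.exact_of_f_is_kernel (ShortComplex.mk (kernel.ι Φ) Φ (kernel.condition Φ))
        (kernelIsKernel Φ)).gIsCokernel)
    (QCoh.isCoh_cokernel _ hK hF)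

theorem unitorR_naturality {A B : X.Modules} (f : A ⟶ B) :
    KoszTw.tensorMap f (𝟙 (Coh.structureModule X)) ≫ (SecTwist.unitorR B).hom =
      (SecTwist.unitorR A).hom ≫ f := by
  refine tensorMod_ext fun U s t => ?_
  have h1 : (KoszTw.tensorMap f (𝟙 (Coh.structureModule X))).app U (SecTwist.tmul A (Coh.structureModule X) U s t) =
      SecTwist.tmul B (Coh.structureModule X) U (f.app U s) t := KoszTw.tensorMap_tmul _ _ _ _ _
  show (SecTwist.unitorR B).hom.app U ((KoszTw.tensorMap f (𝟙 (Coh.structureModule X))).app U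
      (SecTwist.tmul A (Coh.structureModule X) U s t)) =
    f.app U ((SecTwist.unitorR A).hom.app U (SecTwist.tmul A (Coh.structureModule X) U s t))
  rw [h1]
  have hA := SecTwist.unitorR_tmul A U s t
  have hB := SecTwist.unitorR_tmul B U (f.app U s) t
  exact hB.trans (((f.val.app (op U)).hom.map_smul (show X.ringCatSheaf.obj.obj (op U) from t) s).symm.trans
    (congrArg (fun z => (f.val.app (op U)).hom z) hA).symm)

theorem twistMap_naturality (I : X.IdealSheafData) {A B : X.Modules} (f : A ⟶ B) :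
    KoszTw.tensorMap f (𝟙 (ClSub.idealMod I)) ≫ ParSh.twistMap I B = ParSh.twistMap I A ≫ f := by
  rw [ParSh.twistMap, ParSh.twistMap, Category.assoc, ← unitorR_naturality f, ← Category.assoc, ← Category.assoc,
    ← KoszTw.tensorMap_comp, ← KoszTw.tensorMap_comp]
  simp only [Category.id_comp, Category.comp_id]

theorem epi_tensorMap_left (Q : X.Modules) {A B : X.Modules} (f : A ⟶ B) [Epi f] :
    Epi (KoszTw.tensorMap f (𝟙 Q)) := by
  have h : Epi ((tF Q).map f) := Functor.map_epi _ _
  have e : (tF Q).map f = KoszTw.tensorMap f (𝟙 Q) := KoszTw.tensorBi_map_app f Q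
  rw [← e]; exact h

theorem imageSubobject_epi_comp {C : Type*} [Category C] [Abelian C] {A B D : C} (e : A ⟶ B) [Epi e]
    (f : B ⟶ D) : imageSubobject (e ≫ f) = imageSubobject f := by
  haveI : IsIso (image.preComp e f) := isIso_of_mono_of_epi _
  exact Subobject.mk_eq_mk_of_comm _ _ (asIso (image.preComp e f)) (image.preComp_ι e f)

theorem imageSubobject_arrow_epi_comp {C : Type*} [Category C] [Abelian C] {A B D : C} (g : A ⟶ B) (q : B ⟶ D) :
    imageSubobject ((imageSubobject g).arrow ≫ q) = imageSubobject (g ≫ q) := by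
  rw [← imageSubobject_epi_comp (factorThruImageSubobject g), imageSubobject_arrow_comp_assoc]

theorem imageSubobject_twistSub (I : X.IdealSheafData) {E V : X.Modules} (q : E ⟶ V) [Epi q] :
    imageSubobject ((ParSh.twistSub I E).arrow ≫ q) = ParSh.twistSub I V := by
  haveI := epi_tensorMap_left (ClSub.idealMod I) q
  rw [ParSh.twistSub, imageSubobject_arrow_epi_comp, ← twistMap_naturality, imageSubobject_epi_comp]
  rfl

/-- The quotient by `E(-D)` is the restriction to `D`. -/
theorem nonempty_cokernel_twistSub_iso (I : X.IdealSheafData) (E : X.Modules) :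
    Nonempty (cokernel (ParSh.twistSub I E).arrow ≅ ParSh.resD I E) := by
  haveI := Euler.epi_toSubscheme I
  have c1 : cokernel (ParSh.twistSub I E).arrow ≅ cokernel (ParSh.twistMap I E) :=
    (cokernelEpiComp (factorThruImageSubobject (ParSh.twistMap I E)) (ParSh.twistSub I E).arrow).symm ≪≫
      cokernelIsoOfEq (imageSubobject_arrow_comp (ParSh.twistMap I E))
  haveI : PreservesColimitsOfSize.{0, 0} ((DCoh.tensorBi (X := X)).obj E) :=
    preservesColimitsOfSize_shrink.{0, u, 0, u} _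
  let j := PreservesCokernel.iso ((DCoh.tensorBi (X := X)).obj E) (ClSub.idealModι I)
  let c : cokernel (ClSub.idealModι I) ≅ ClSub.quotMod I :=
    IsColimit.coconePointUniqueUpToIso (cokernelIsCokernel (kernel.ι (ClSub.toSubscheme I)))
      (ShortComplex.exact_of_f_is_kernel (ShortComplex.mk _ (ClSub.toSubscheme I) (kernel.condition _))
        (kernelIsKernel (ClSub.toSubscheme I))).gIsCokernel
  let e2 : ((DCoh.tensorBi (X := X)).obj E).obj (cokernel (ClSub.idealModι I)) ≅
      ((DCoh.tensorBi (X := X)).obj E).obj (ClSub.quotMod I) := ((DCoh.tensorBi (X := X)).obj E).mapIso c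
  haveI := (SecTwist.unitorR E).isIso_hom
  have c0 : cokernel (((DCoh.tensorBi (X := X)).obj E).map (ClSub.idealModι I)) ≅
      cokernel (KoszTw.tensorMap (𝟙 E) (ClSub.idealModι I)) := cokernelIsoOfEq (KoszTw.tensorBi_obj_map _ _)
  have c2 : cokernel (ParSh.twistMap I E) ≅ cokernel (KoszTw.tensorMap (𝟙 E) (ClSub.idealModι I)) :=
    cokernelCompIsIso _ _
  exact ⟨c1 ≪≫ c2 ≪≫ c0.symm ≪≫ j.symm ≪≫ e2⟩

section Generic

variable {C : Type*} [Category C]

theorem telescope_from {n : ℕ} (g : Fin (n + 2) → ℝ) (j₀ : Fin (n + 1)) :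
    ∑ j : Fin (n + 1), (if j₀ ≤ j then g j.castSucc - g j.succ else 0) = g j₀.castSucc - g (Fin.last (n + 1)) := by
  let h : Fin (n + 2) → ℝ := fun i => g (max i j₀.castSucc)
  have h1 := Fin.sum_univ_succ h
  have h2 := Fin.sum_univ_castSucc h
  have hb : h 0 = g j₀.castSucc := congrArg g (max_eq_right (Fin.zero_le _))
  have hl : h (Fin.last (n + 1)) = g (Fin.last (n + 1)) := congrArg g (max_eq_left (Fin.le_last _))
  have hd : ∀ j : Fin (n + 1), (if j₀ ≤ j then g j.castSucc - g j.succ else 0) = h j.castSucc - h j.succ := by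
    intro j
    by_cases hj : j₀ ≤ j
    · have a1 : max j.castSucc j₀.castSucc = j.castSucc := max_eq_left hj
      have a2 : max j.succ j₀.castSucc = j.succ :=
        max_eq_left (le_trans (show j₀.castSucc ≤ j.castSucc from hj) (Fin.castSucc_lt_succ (i := j)).le)
      rw [if_pos hj]; simp only [h, a1, a2]
    · have hlt : j < j₀ := not_le.1 hj
      have a1 : max j.castSucc j₀.castSucc = j₀.castSucc := max_eq_right (show j.castSucc ≤ j₀.castSucc from hlt.le)
      have a2 : max j.succ j₀.castSucc = j₀.castSucc := max_eq_right (Fin.succ_le_castSucc_iff.2 hlt)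
      rw [if_neg hj]; simp only [h, a1, a2, sub_self]
  rw [Finset.sum_congr rfl fun j _ => hd j, Finset.sum_sub_distrib]
  linarith

variable [HasImages C] [HasBinaryCoproducts C] [HasInitial C] [InitialMonoClass C]

theorem at_cases {E : C} (𝓔 : ParSh.Str E) (a : ℝ) :
    (∃ j₀, a ≤ 𝓔.wt j₀ ∧ ∀ j < j₀, 𝓔.wt j < a) ∨ ∀ j, 𝓔.wt j < a := by
  classical
  by_cases h : ∃ j, a ≤ 𝓔.wt j
  · obtain ⟨j, hj, hmin⟩ := Finset.exists_min_image (Finset.univ.filter fun j => a ≤ 𝓔.wt j) id
      ⟨h.choose, Finset.mem_filter.2 ⟨Finset.mem_univ _, h.choose_spec⟩⟩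
    refine Or.inl ⟨j, (Finset.mem_filter.1 hj).2, fun i hi => not_le.1 fun hle => ?_⟩
    exact absurd (hmin i (Finset.mem_filter.2 ⟨Finset.mem_univ _, hle⟩)) (not_le.2 hi)
  · exact Or.inr fun j => not_le.1 fun hle => h ⟨j, hle⟩

theorem fun_at {E : C} (𝓔 : ParSh.Str E) (f : Subobject E → ℝ) (a : ℝ) :
    f (𝓔.at a) = f 𝓔.bot +
      ∑ j, (if a ≤ 𝓔.wt j then f (𝓔.piece j) - f (𝓔.pieceX j.succ) else 0) := by
  rcases at_cases 𝓔 a with ⟨j₀, hj, hlt⟩ | h
  · have he : ∀ j, (a ≤ 𝓔.wt j) ↔ j₀ ≤ j := fun j =>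
      ⟨fun hle => le_of_not_gt fun hh => not_le.2 (hlt j hh) hle,
        fun hle => hj.trans (𝓔.wt_strictMono.monotone hle)⟩
    have h := telescope_from (fun i => f (𝓔.pieceX i)) j₀
    rw [𝓔.at_eq_piece j₀ hj hlt]
    simp only [ParSh.Str.pieceX_castSucc, ParSh.Str.pieceX_last] at h
    simp only [he]
    linarith
  · rw [𝓔.at_eq_bot h, Finset.sum_eq_zero fun j _ => if_neg (not_le.2 (h j)), add_zero]

variable [HasPullbacks C]

theorem at_induced {E F : C} (𝓔 : ParSh.Str E) (i : F ⟶ E) (a : ℝ) :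
    (𝓔.induced i).at a = (Subobject.pullback i).obj (𝓔.at a) := by
  rcases at_cases 𝓔 a with ⟨j₀, hj, hlt⟩ | h
  · rw [𝓔.at_eq_piece j₀ hj hlt]; exact (𝓔.induced i).at_eq_piece j₀ hj hlt
  · rw [𝓔.at_eq_bot h]; exact (𝓔.induced i).at_eq_bot h

variable [HasEqualizers C] [Balanced C]

theorem at_coinduced {E G : C} (𝓔 : ParSh.Str E) (p : E ⟶ G) [Epi p] (a : ℝ) :
    (𝓔.coinduced p).at a = imageSubobject ((𝓔.at a).arrow ≫ p) := by
  rcases at_cases 𝓔 a with ⟨j₀, hj, hlt⟩ | h
  · rw [𝓔.at_eq_piece j₀ hj hlt]; exact (𝓔.coinduced p).at_eq_piece j₀ hj hlt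
  · rw [𝓔.at_eq_bot h]; exact (𝓔.coinduced p).at_eq_bot h

theorem pieceX_coinduced {E G : C} (𝓔 : ParSh.Str E) (p : E ⟶ G) [Epi p] (j : Fin (𝓔.l + 2)) :
    (𝓔.coinduced p).pieceX j = imageSubobject ((𝓔.pieceX j).arrow ≫ p) := by
  induction j using Fin.lastCases with
  | last => rw [𝓔.pieceX_last]; exact (𝓔.coinduced p).pieceX_last
  | cast j => rw [𝓔.pieceX_castSucc]; exact (𝓔.coinduced p).pieceX_castSucc j

end Generic

section Integral

open MeasureTheory

theorem setIntegral_step {n : ℕ} (w e : Fin n → ℝ) (hw : ∀ j, 0 ≤ w j ∧ w j ≤ 1) (c : ℝ) :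
    IntegrableOn (fun a => c + ∑ j, (if a ≤ w j then e j else 0)) (Set.Ioc (0 : ℝ) 1) ∧
      ∫ a in Set.Ioc (0 : ℝ) 1, (c + ∑ j, (if a ≤ w j then e j else 0)) = c + ∑ j, w j * e j := by
  have hind : ∀ j, (fun a : ℝ => if a ≤ w j then e j else 0) = Set.indicator (Set.Iic (w j)) fun _ => e j :=
    fun j => funext fun a => by simp [Set.indicator_apply, Set.mem_Iic]
  have hc : IntegrableOn (fun _ : ℝ => c) (Set.Ioc (0 : ℝ) 1) := integrableOn_const (by simp)
  have hi : ∀ j, IntegrableOn (fun a : ℝ => if a ≤ w j then e j else 0) (Set.Ioc (0 : ℝ) 1) := fun j => by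
    rw [hind j]
    exact (integrableOn_const (by simp)).indicator measurableSet_Iic
  have hs : IntegrableOn (fun a => ∑ j, (if a ≤ w j then e j else 0)) (Set.Ioc (0 : ℝ) 1) :=
    integrable_finsetSum _ fun j _ => hi j
  refine ⟨hc.add hs, ?_⟩
  rw [integral_add hc hs, integral_finsetSum _ fun j _ => hi j]
  congr 1
  · simp
  · refine Finset.sum_congr rfl fun j _ => ?_
    rw [show (fun a : ℝ => if a ≤ w j then e j else 0) = Set.indicator (Set.Iic (w j)) fun _ => e j from hind j,
      setIntegral_indicator measurableSet_Iic, Set.Ioc_inter_Iic, setIntegral_const, smul_eq_mul,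
      min_eq_right (hw j).2]
    simp [(hw j).1]

theorem wt_mem {C : Type*} [Category C] {E : C} (𝓔 : ParSh.Str E) (j : Fin (𝓔.l + 1)) :
    0 ≤ 𝓔.wt j ∧ 𝓔.wt j ≤ 1 :=
  ⟨𝓔.wt_nonneg.trans (𝓔.wt_strictMono.monotone (Fin.zero_le j)),
    (le_trans (𝓔.wt_strictMono.monotone (Fin.le_last j)) 𝓔.wt_lt_one.le)⟩

variable (k : Type u) [Field k] [X.Over (Spec (CommRingCat.of k))]

theorem euler_at {E : X.Modules} (𝓔 : ParSh.Str E) (a : ℝ) :
    (Curv2.euler k X (𝓔.at a : X.Modules) : ℝ) = (Curv2.euler k X (𝓔.bot : X.Modules) : ℝ) +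
      ∑ j, (if a ≤ 𝓔.wt j then (Curv2.euler k X (𝓔.piece j : X.Modules) : ℝ) -
        Curv2.euler k X (𝓔.pieceX j.succ : X.Modules) else 0) :=
  fun_at 𝓔 (fun P => (Curv2.euler k X (P : X.Modules) : ℝ)) a

/-- Comparing the real filtrations compares the parabolic Euler characteristics. -/
theorem parEuler_le {A B : X.Modules} (𝓐 : ParSh.Str A) (𝓑 : ParSh.Str B)
    (h : ∀ a : ℝ, 0 ≤ a → a ≤ 1 →
      (Curv2.euler k X (𝓐.at a : X.Modules) : ℝ) ≤ Curv2.euler k X (𝓑.at a : X.Modules)) :
    𝓐.parEuler k X ≤ 𝓑.parEuler k X := by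
  obtain ⟨iA, eA⟩ := setIntegral_step 𝓐.wt
    (fun j => (Curv2.euler k X (𝓐.piece j : X.Modules) : ℝ) - Curv2.euler k X (𝓐.pieceX j.succ : X.Modules))
    (wt_mem 𝓐) (Curv2.euler k X (𝓐.bot : X.Modules))
  obtain ⟨iB, eB⟩ := setIntegral_step 𝓑.wt
    (fun j => (Curv2.euler k X (𝓑.piece j : X.Modules) : ℝ) - Curv2.euler k X (𝓑.pieceX j.succ : X.Modules))
    (wt_mem 𝓑) (Curv2.euler k X (𝓑.bot : X.Modules))
  rw [ParSh.Str.parEuler, ParSh.Str.parWt, ParSh.Str.parEuler, ParSh.Str.parWt, ← eA, ← eB]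
  refine setIntegral_mono_on iA iB measurableSet_Ioc fun a ha => ?_
  rw [← euler_at k 𝓐 a, ← euler_at k 𝓑 a]
  exact h a ha.1.le ha.2

end Integral

section Curve

variable (k : Type u) [Field k] [X.Over (Spec (CommRingCat.of k))]
  [IsProper (X ↘ Spec (CommRingCat.of k))] [IsIntegral X] (hd : topologicalKrullDim X ≤ 1)
  {I : X.IdealSheafData} (hD : FGA.IsEffCartier I)

include hd hD in
/-- The quotient by `E(-D)`. -/
theorem twistSub_data {n : ℕ} {E : X.Modules} (hE : FlatMod.IsFinLocFreeOfRank n E) :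
    Coh.IsCoh (cokernel (ParSh.twistSub I E).arrow) ∧
      (CohB1.support (cokernel (ParSh.twistSub I E).arrow)).Finite ∧
      (∀ x ∈ CohB1.support (cokernel (ParSh.twistSub I E).arrow), IsClosed ({x} : Set X)) ∧
      Module.finrank k (Coh.HH X (cokernel (ParSh.twistSub I E).arrow) 0) =
        n * Module.finrank k (Coh.HH X (ClSub.quotMod I) 0) := by
  obtain ⟨e⟩ := nonempty_cokernel_twistSub_iso I E
  obtain ⟨hc, hfin, hcl, hdim⟩ := resD_data k hd hD hE
  have hc' : Coh.IsCoh (cokernel (ParSh.twistSub I E).arrow) := QCoh.isCoh_of_iso e.symm hc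
  have hs : CohB1.support (cokernel (ParSh.twistSub I E).arrow) = CohB1.support (ParSh.resD I E) :=
    QCoh.support_eq_of_iso e
  refine ⟨hc', hs ▸ hfin, hs ▸ hcl, ?_⟩
  have h1 := Euler.euler_eq_of_finite_support k _ hfin hcl
  have h2 := Euler.euler_eq_of_finite_support k (cokernel (ParSh.twistSub I E).arrow) (hs ▸ hfin) (hs ▸ hcl)
  rw [Euler.euler_of_iso k e, h1] at h2
  have h3 : Module.finrank k (Coh.HH X (ParSh.resD I E) 0) = n * Module.finrank k (Coh.HH X (ClSub.quotMod I) 0) := hdim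
  rw [← h3]
  exact_mod_cast h2.symm

include hd hD in
/-- A subsheaf above `E(-D)`. -/
theorem sub_data {n : ℕ} {E : X.Modules} (hE : FlatMod.IsFinLocFreeOfRank n E) {P : Subobject E}
    (hP : ParSh.twistSub I E ≤ P) :
    Coh.IsCoh (P : X.Modules) ∧ Coh.IsCoh (cokernel P.arrow) ∧
      (CohB1.support (cokernel P.arrow)).Finite ∧
      (∀ x ∈ CohB1.support (cokernel P.arrow), IsClosed ({x} : Set X)) ∧
      Curv2.euler k X (P : X.Modules) =
        Curv2.euler k X E - (Module.finrank k (Coh.HH X (cokernel P.arrow) 0) : ℤ) ∧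
      grank (P : X.Modules) = n := by
  haveI := Euler.isNoetherian_of_proper (X := X) k
  have hEc := Euler.isCoh_of_isFinLocFree (FinCov.isFinLocFree_of_rank hE)
  obtain ⟨hMc, hMfin, hMcl, -⟩ := twistSub_data k hd hD hE
  let r : cokernel (ParSh.twistSub I E).arrow ⟶ cokernel P.arrow := cokernel.desc _ (cokernel.π P.arrow)
    (by rw [← Subobject.ofLE_arrow hP, Category.assoc, cokernel.condition, comp_zero])
  haveI : Epi r := epi_of_epi_fac (cokernel.π_desc _ _ _)
  have hK : Coh.IsCoh (kernel r) := isCoh_of_mono_finite_support (kernel.ι r) hMc hMfin hMcl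
  let c : cokernel (kernel.ι r) ≅ cokernel P.arrow :=
    (cokernelIsCokernel (kernel.ι r)).coconePointUniqueUpToIso
      (ShortComplex.exact_of_f_is_kernel (ShortComplex.mk (kernel.ι r) r (kernel.condition r))
        (kernelIsKernel r)).gIsCokernel
  have hC : Coh.IsCoh (cokernel P.arrow) := QCoh.isCoh_of_iso c (QCoh.isCoh_cokernel (kernel.ι r) hK hMc)
  let eP : kernel (cokernel.π P.arrow) ≅ (P : X.Modules) :=
    IsLimit.conePointUniqueUpToIso (kernelIsKernel (cokernel.π P.arrow))
      (Abelian.monoIsKernelOfCokernel _ (colimit.isColimit (parallelPair P.arrow 0)))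
  have hPc : Coh.IsCoh (P : X.Modules) := QCoh.isCoh_of_iso eP (QCoh.isCoh_kernel _ hEc hC)
  have hsub : CohB1.support (cokernel P.arrow) ⊆ CohB1.support (cokernel (ParSh.twistSub I E).arrow) :=
    QCoh.support_subset_of_epi r
  have hCfin := hMfin.subset hsub
  have hCcl : ∀ x ∈ CohB1.support (cokernel P.arrow), IsClosed ({x} : Set X) := fun x hx => hMcl x (hsub hx)
  have hS := Euler.cokernel_shortExact P.arrow
  have he := Euler.euler_additive k hS hPc hEc hC
  have hg := Euler.grank_additive hS hEc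
  have hC0 := Euler.euler_eq_of_finite_support k _ hCfin hCcl
  dsimp only at he hg
  have hη : genericPoint X ∉ CohB1.support (cokernel P.arrow) := fun h =>
    genericPoint_notMem k hD ((support_cokernel_of_twistSub_le hP h).2)
  rw [Euler.grank_of_locFree hE, Euler.grank_eq_zero_of_notMem hη] at hg
  exact ⟨hPc, hC, hCfin, hCcl, by omega, by omega⟩

include hd hD in
/-- Comparison of two subsheaves above the twists under a map of bundles of the same rank. -/
theorem euler_le_of_sub {n : ℕ} {V V' : X.Modules} (hV : FlatMod.IsFinLocFreeOfRank n V)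
    (hV' : FlatMod.IsFinLocFreeOfRank n V') {S : Subobject V} (hS : ParSh.twistSub I V ≤ S)
    {P : Subobject V'} (hP : ParSh.twistSub I V' ≤ P) (m : (S : X.Modules) ⟶ (P : X.Modules)) [Mono m] :
    Curv2.euler k X (S : X.Modules) ≤ Curv2.euler k X (P : X.Modules) := by
  obtain ⟨hSc, -, -, -, -, gS⟩ := sub_data k hd hD hV hS
  obtain ⟨hPc, -, -, -, -, gP⟩ := sub_data k hd hD hV' hP
  have h := (Euler.degree_le_of_mono k hd m hSc hPc (gS.trans gP.symm)).1
  rw [Euler.degree, Euler.degree, gS, gP] at h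
  linarith

include hd hD in
/-- Pulled back to a saturated subbundle, `F(-D)` is no bigger than the twist of the subbundle. -/
theorem le_finrank_pullback_twistSub (hpid : ∀ x : X, IsPrincipalIdealRing (X.presheaf.stalk x))
    {r s : ℕ} {W F : X.Modules} (hW : FlatMod.IsFinLocFreeOfRank r W) (hF : FlatMod.IsFinLocFreeOfRank s F)
    (ι : W ⟶ F) [Mono ι] (hsat : FlatMod.IsFinLocFree (cokernel ι)) :
    r * Module.finrank k (Coh.HH X (ClSub.quotMod I) 0) ≤
      Module.finrank k (Coh.HH X (cokernel ((Subobject.pullback ι).obj (ParSh.twistSub I F)).arrow) 0) := by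
  haveI := Euler.isNoetherian_of_proper (X := X) k
  have hWc := Euler.isCoh_of_isFinLocFree (FinCov.isFinLocFree_of_rank hW)
  have hFc := Euler.isCoh_of_isFinLocFree (FinCov.isFinLocFree_of_rank hF)
  have hCc := Euler.isCoh_of_isFinLocFree hsat
  have hg := Euler.grank_additive (Euler.cokernel_shortExact ι) hFc
  dsimp only at hg
  rw [Euler.grank_of_locFree hF, Euler.grank_of_locFree hW] at hg
  have hC := Euler.isFinLocFreeOfRank_of_torsionFree hpid hCc (Euler.isTorsionFree_of_mono (𝟙 _) hsat)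
  obtain ⟨hMc, hMfin, hMcl, hMdim⟩ := twistSub_data k hd hD hF
  obtain ⟨hNc, hNfin, hNcl, hNdim⟩ := twistSub_data k hd hD hC
  let g := ι ≫ cokernel.π (ParSh.twistSub I F).arrow
  have hgI : Coh.IsCoh (Abelian.image g) := QCoh.isCoh_kernel _ hMc (QCoh.isCoh_cokernel g hWc hMc)
  have hS : (ShortComplex.mk (Abelian.image.ι g) (cokernel.π g) (kernel.condition _)).ShortExact :=
    ShortComplex.ShortExact.mk' (ShortComplex.exact_of_f_is_kernel _ (kernelIsKernel _)) inferInstance inferInstance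
  have h1 : Module.finrank k (Coh.HH X (cokernel (ParSh.twistSub I F).arrow) 0) =
      Module.finrank k (Coh.HH X (Abelian.image g) 0) + Module.finrank k (Coh.HH X (cokernel g) 0) :=
    finrank_H0_of_finite_support k hS hgI hMc (QCoh.isCoh_cokernel g hWc hMc) hMfin hMcl
  have hz : (ParSh.twistSub I F).arrow ≫ cokernel.π (ParSh.twistSub I F).arrow ≫ cokernel.π g = 0 := by
    rw [← Category.assoc, cokernel.condition, zero_comp]
  let a : cokernel ι ⟶ cokernel g := cokernel.desc ι (cokernel.π (ParSh.twistSub I F).arrow ≫ cokernel.π g)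
    (by rw [← Category.assoc]; exact cokernel.condition g)
  haveI : Epi a := epi_of_epi_fac (cokernel.π_desc _ _ _)
  have hza : (ParSh.twistSub I (cokernel ι)).arrow ≫ a = 0 := by
    haveI := epi_tensorMap_left (ClSub.idealMod I) (cokernel.π ι)
    rw [← cancel_epi (factorThruImageSubobject (ParSh.twistMap I (cokernel ι))), comp_zero]
    rw [show factorThruImageSubobject (ParSh.twistMap I (cokernel ι)) ≫ (ParSh.twistSub I (cokernel ι)).arrow ≫ a =
      ParSh.twistMap I (cokernel ι) ≫ a from imageSubobject_arrow_comp_assoc _ _]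
    rw [← cancel_epi (KoszTw.tensorMap (cokernel.π ι) (𝟙 (ClSub.idealMod I))), comp_zero, ← Category.assoc,
      twistMap_naturality, Category.assoc, cokernel.π_desc,
      ← imageSubobject_arrow_comp (ParSh.twistMap I F), Category.assoc]
    exact (congrArg (_ ≫ ·) hz).trans comp_zero
  let b : cokernel (ParSh.twistSub I (cokernel ι)).arrow ⟶ cokernel g := cokernel.desc _ a hza
  haveI : Epi b := epi_of_epi_fac (cokernel.π_desc _ _ _)
  have h2 := finrank_H0_le_of_epi k b hNc (QCoh.isCoh_cokernel g hWc hMc) hNfin hNcl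
  let e : Abelian.image g ≅ cokernel ((Subobject.pullback ι).obj (ParSh.twistSub I F)).arrow :=
    (Abelian.coimageIsoImage g).symm ≪≫ (cokernelPullbackIso ι (ParSh.twistSub I F)).symm
  have hIfin : (CohB1.support (Abelian.image g)).Finite :=
    hMfin.subset (QCoh.support_subset_of_mono (Abelian.image.ι g))
  have hIcl : ∀ x ∈ CohB1.support (Abelian.image g), IsClosed ({x} : Set X) :=
    fun x hx => hMcl x (QCoh.support_subset_of_mono (Abelian.image.ι g) hx)
  have h3 : Module.finrank k (Coh.HH X (cokernel ((Subobject.pullback ι).obj (ParSh.twistSub I F)).arrow) 0) =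
      Module.finrank k (Coh.HH X (Abelian.image g) 0) := by
    have a1 := Euler.euler_eq_of_finite_support k _ hIfin hIcl
    have a2 := Euler.euler_eq_of_finite_support k (cokernel ((Subobject.pullback ι).obj (ParSh.twistSub I F)).arrow)
      (QCoh.support_eq_of_iso e ▸ hIfin) (QCoh.support_eq_of_iso e ▸ hIcl)
    rw [← Euler.euler_of_iso k e, a1] at a2
    exact_mod_cast a2.symm
  rw [hMdim] at h1
  rw [hNdim] at h2
  rw [h3]
  have : s * Module.finrank k (Coh.HH X (ClSub.quotMod I) 0) =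
      r * Module.finrank k (Coh.HH X (ClSub.quotMod I) 0) +
        grank (cokernel ι) * Module.finrank k (Coh.HH X (ClSub.quotMod I) 0) := by rw [← add_mul, hg]
  omega

theorem parDeg_eq {E : X.Modules} (𝓔 : ParSh.Str E) (n : ℕ) :
    𝓔.parDeg k X n = 𝓔.parEuler k X + ((Curv2.euler k X E : ℝ) - Curv2.euler k X (𝓔.bot : X.Modules)) -
      n * (Curv2.euler k X (Coh.structureModule X) : ℝ) := by
  simp only [ParSh.Str.parDeg, ParSh.Str.parEuler, Curv2.deg, Int.cast_sub, Int.cast_mul, Int.cast_natCast]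
  ring

theorem twistSub_le_pullback (J : X.IdealSheafData) {W F : X.Modules} (ι : W ⟶ F) :
    ParSh.twistSub J W ≤ (Subobject.pullback ι).obj (ParSh.twistSub J F) := by
  have hp := Subobject.isPullback ι (ParSh.twistSub J F)
  refine imageSubobject_le _ (hp.lift (KoszTw.tensorMap ι (𝟙 _) ≫ factorThruImageSubobject (ParSh.twistMap J F))
    (ParSh.twistMap J W) ?_) (hp.lift_snd _ _ _)
  rw [Category.assoc]
  exact (congrArg (_ ≫ ·) (imageSubobject_arrow_comp (ParSh.twistMap J F))).trans (twistMap_naturality J ι)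

theorem imageSubobject_mono_le {C : Type*} [Category C] [Abelian C] {E V : C} {P Q : Subobject E} (h : P ≤ Q)
    (q : E ⟶ V) : imageSubobject (P.arrow ≫ q) ≤ imageSubobject (Q.arrow ≫ q) := by
  rw [← Subobject.ofLE_arrow h, Category.assoc]
  exact imageSubobject_comp_le _ _

include hd hD in
/-- The image of a parabolic homomorphism has parabolic degree at most that of its saturation. -/
theorem parDeg_coinduced_le_induced (hpid : ∀ x : X, IsPrincipalIdealRing (X.presheaf.stalk x))
    {E F V V' : X.Modules} {s n : ℕ} (hF : FlatMod.IsFinLocFreeOfRank s F)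
    (hV : FlatMod.IsFinLocFreeOfRank n V) (hV' : FlatMod.IsFinLocFreeOfRank n V')
    (𝓔 : ParSh.Str E) (h𝓔 : 𝓔.Along I) (𝓕 : ParSh.Str F) (h𝓕 : 𝓕.Along I)
    (q : E ⟶ V) [Epi q] (u : V ⟶ V') [Mono u] (ι : V' ⟶ F) [Mono ι]
    (hφ : ParSh.IsParHom 𝓔 𝓕 (q ≫ u ≫ ι)) (hsat : FlatMod.IsFinLocFree (cokernel ι)) :
    (𝓔.coinduced q).parDeg k X n ≤ (𝓕.induced ι).parDeg k X n := by
  have hE' : ParSh.twistSub I E = 𝓔.bot := h𝓔.symm
  have hF' : ParSh.twistSub I F = 𝓕.bot := h𝓕.symm
  have hb : (𝓔.coinduced q).bot = ParSh.twistSub I V := by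
    show imageSubobject (𝓔.bot.arrow ≫ q) = _
    rw [← hE', imageSubobject_twistSub]
  have hb' : (𝓕.induced ι).bot = (Subobject.pullback ι).obj (ParSh.twistSub I F) := by
    show (Subobject.pullback ι).obj 𝓕.bot = _
    rw [hF']
  have key : (𝓔.coinduced q).parEuler k X ≤ (𝓕.induced ι).parEuler k X := by
    refine parEuler_le k _ _ fun a ha0 ha1 => ?_
    rw [at_coinduced, at_induced]
    have hS : ParSh.twistSub I V ≤ imageSubobject ((𝓔.at a).arrow ≫ q) := by
      rw [← imageSubobject_twistSub I q, hE']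
      exact imageSubobject_mono_le (𝓔.bot_le_at a) q
    have hP : ParSh.twistSub I V' ≤ (Subobject.pullback ι).obj (𝓕.at a) :=
      (twistSub_le_pullback I ι).trans ((Subobject.pullback ι).monotone (hF' ▸ 𝓕.bot_le_at a))
    let S := imageSubobject ((𝓔.at a).arrow ≫ q)
    have hfac : ((S.arrow ≫ u) ≫ ι) ≫ cokernel.π (𝓕.at a).arrow = 0 := by
      rw [← cancel_epi (factorThruImageSubobject ((𝓔.at a).arrow ≫ q)), comp_zero]
      calc factorThruImageSubobject ((𝓔.at a).arrow ≫ q) ≫ ((S.arrow ≫ u) ≫ ι) ≫ cokernel.π (𝓕.at a).arrow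
          = ((𝓔.at a).arrow ≫ q ≫ u ≫ ι) ≫ cokernel.π (𝓕.at a).arrow := by
            simp only [S, Category.assoc, imageSubobject_arrow_comp_assoc]
        _ = 0 := by
            rw [← Subobject.factorThru_arrow _ _ (hφ a ha0 ha1), Category.assoc, cokernel.condition, comp_zero]
    have hp := Subobject.isPullback ι (𝓕.at a)
    let m := hp.lift (Abelian.monoLift (𝓕.at a).arrow _ hfac) (S.arrow ≫ u) (Abelian.monoLift_comp _ _ _)
    have hm : m ≫ ((Subobject.pullback ι).obj (𝓕.at a)).arrow = S.arrow ≫ u := hp.lift_snd _ _ _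
    haveI : Mono (m ≫ ((Subobject.pullback ι).obj (𝓕.at a)).arrow) := by rw [hm]; infer_instance
    haveI : Mono m := mono_of_mono m ((Subobject.pullback ι).obj (𝓕.at a)).arrow
    exact Int.cast_le.2 (euler_le_of_sub k hd hD hV hV' hS hP m)
  obtain ⟨-, -, -, -, e1, -⟩ := sub_data k hd hD hV (le_refl (ParSh.twistSub I V))
  obtain ⟨-, -, -, h0⟩ := twistSub_data k hd hD hV
  obtain ⟨-, -, -, -, e2, -⟩ := sub_data k hd hD hV' (twistSub_le_pullback I ι)
  have h2 := le_finrank_pullback_twistSub k hd hD hpid hV' hF ι hsat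
  rw [parDeg_eq, parDeg_eq, hb, hb', e1, e2, h0]
  have h2' : ((n * Module.finrank k (Coh.HH X (ClSub.quotMod I) 0) : ℕ) : ℝ) ≤
      (Module.finrank k (Coh.HH X (cokernel ((Subobject.pullback ι).obj (ParSh.twistSub I F)).arrow) 0) : ℝ) :=
    Nat.cast_le.2 h2
  push_cast at h2' ⊢
  linarith

end Curve

end GrothLib.ParHilb
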