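import Groth.Agent.Lib.Euler.VB
import Groth.Agent.Lib.OX.TensorAssoc
import Groth.Agent.Lib.HodgeIndex.NegCurves
import Groth.Prelude.Def_ParBun2

/-!
# Generalised parabolic structures on curves: full-rank submodules
-/

set_option autoImplicit false
set_option linter.all false
set_option backward.isDefEq.respectTransparency false

universe u

open CategoryTheory CategoryTheory.Limits AlgebraicGeometry TopologicalSpace

noncomputable section

namespace GrothLib.ParHilb

open GrothLib.Euler (tF)

variable {X : Scheme.{u}} (k : Type u) [Field k] [X.Over (Spec (CommRingCat.of k))]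
  [IsProper (X ↘ Spec (CommRingCat.of k))]

include k in
/-- On finite supports, quotients have fewer sections and sections are exact. -/
theorem finrank_H0_of_finite_support {A B C : X.Modules} {f : A ⟶ B} {g : B ⟶ C} {w : f ≫ g = 0}
    (hS : (ShortComplex.mk f g w).ShortExact) (h₁ : Coh.IsCoh A)
    (h₂ : Coh.IsCoh B) (h₃ : Coh.IsCoh C) (hfin : (CohB1.support B).Finite)
    (hcl : ∀ x ∈ CohB1.support B, IsClosed ({x} : Set X)) :
    Module.finrank k (Coh.HH X B 0) = Module.finrank k (Coh.HH X A 0) + Module.finrank k (Coh.HH X C 0) := by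
  haveI : Mono f := hS.mono_f
  haveI : Epi g := hS.epi_g
  have e1 := Euler.euler_eq_of_finite_support k A (hfin.subset (QCoh.support_subset_of_mono f))
    fun x hx => hcl x (QCoh.support_subset_of_mono f hx)
  have e2 := Euler.euler_eq_of_finite_support k B hfin hcl
  have e3 := Euler.euler_eq_of_finite_support k C (hfin.subset (QCoh.support_subset_of_epi g))
    fun x hx => hcl x (QCoh.support_subset_of_epi g hx)
  have h := Euler.euler_additive (S := ShortComplex.mk f g w) k hS h₁ h₂ h₃
  dsimp only at h
  rw [e1, e2, e3] at h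
  exact_mod_cast h

include k in
theorem finrank_H0_le_of_epi {M N : X.Modules} (f : M ⟶ N) [Epi f] (hM : Coh.IsCoh M) (hN : Coh.IsCoh N)
    (hfin : (CohB1.support M).Finite) (hcl : ∀ x ∈ CohB1.support M, IsClosed ({x} : Set X)) :
    Module.finrank k (Coh.HH X N 0) ≤ Module.finrank k (Coh.HH X M 0) := by
  haveI := Euler.isNoetherian_of_proper (X := X) k
  have hS : (ShortComplex.mk (kernel.ι f) f (kernel.condition f)).ShortExact :=
    ShortComplex.ShortExact.mk' (ShortComplex.exact_of_f_is_kernel _ (kernelIsKernel f)) inferInstance inferInstance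
  have : Module.finrank k (Coh.HH X M 0) =
      Module.finrank k (Coh.HH X (kernel f) 0) + Module.finrank k (Coh.HH X N 0) :=
    finrank_H0_of_finite_support k hS (QCoh.isCoh_kernel f hM hN) hM hN hfin hcl
  omega

include k in
/-- The rank of a map of modules with finite support on sections. -/
theorem finrank_range_ge {M N : X.Modules} (f : M ⟶ N) (hM : Coh.IsCoh M) (hN : Coh.IsCoh N)
    (hMfin : (CohB1.support M).Finite) (hMcl : ∀ x ∈ CohB1.support M, IsClosed ({x} : Set X))
    (hNfin : (CohB1.support N).Finite) (hNcl : ∀ x ∈ CohB1.support N, IsClosed ({x} : Set X)) :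
    Module.finrank k (Coh.HH X N 0) ≤
      Module.finrank k (LinearMap.range (Canon.HHlin k f 0)) + Module.finrank k (Coh.HH X (cokernel f) 0) := by
  haveI := Euler.isNoetherian_of_proper (X := X) k
  have hI : Coh.IsCoh (Abelian.image f) := QCoh.isCoh_kernel _ hN (QCoh.isCoh_cokernel f hM hN)
  have hT : (ShortComplex.mk (Abelian.image.ι f) (cokernel.π f) (kernel.condition _)).ShortExact :=
    ShortComplex.ShortExact.mk' (ShortComplex.exact_of_f_is_kernel _ (kernelIsKernel _)) inferInstance inferInstance
  have e : Module.finrank k (Coh.HH X N 0) =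
      Module.finrank k (Coh.HH X (Abelian.image f) 0) + Module.finrank k (Coh.HH X (cokernel f) 0) :=
    finrank_H0_of_finite_support k hT hI hN (QCoh.isCoh_cokernel f hM hN) hNfin hNcl
  let q := Abelian.factorThruImage f
  have hK := QCoh.isCoh_kernel q hM hI
  have hS : (ShortComplex.mk (kernel.ι q) q (kernel.condition q)).ShortExact :=
    ShortComplex.ShortExact.mk' (ShortComplex.exact_of_f_is_kernel _ (kernelIsKernel q)) inferInstance inferInstance
  have e' : Module.finrank k (Coh.HH X M 0) =
      Module.finrank k (Coh.HH X (kernel q) 0) + Module.finrank k (Coh.HH X (Abelian.image f) 0) :=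
    finrank_H0_of_finite_support k hS hK hM hI hMfin hMcl
  haveI := Euler.finiteDimensional_HH k hK 0
  haveI := Euler.finiteDimensional_HH k hM 0
  haveI := Euler.finiteDimensional_HH k hI 0
  haveI := Euler.finiteDimensional_HH k hN 0
  have h1 := Euler.finrank_eq_add_of_exact (Cohom.exact₂ (A := k) hS 0)
  have h2 := LinearMap.finrank_range_le (Cohom.hhMap k (kernel.ι q) 0)
  have hcomp : Canon.HHlin k f 0 = (Cohom.hhMap k (Abelian.image.ι f) 0).comp (Cohom.hhMap k q 0) := by
    refine LinearMap.ext fun x => ?_
    rw [LinearMap.comp_apply, ← Euler.hhMap_comp, Abelian.image.fac]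
    rfl
  have hinj := Euler.hhMap_zero_injective (A := k) hT
  have h3 : Module.finrank k (LinearMap.range (Canon.HHlin k f 0)) =
      Module.finrank k (LinearMap.range (Cohom.hhMap k q 0)) := by
    rw [hcomp, LinearMap.range_comp]
    exact (Submodule.equivMapOfInjective _ hinj _).finrank_eq.symm
  simp only at h1 h2
  omega

variable [IsIntegral X]

include k in
theorem genericPoint_notMem {I : X.IdealSheafData} (hD : FGA.IsEffCartier I) :
    genericPoint X ∉ (I.support : Set X) := fun h => by
  haveI := Euler.isNoetherian_of_proper (X := X) k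
  haveI : Mono (ClSub.idealModι I) := inferInstanceAs (Mono (kernel.ι (ClSub.toSubscheme I)))
  exact HodgeIndex.not_surjective_idealModι I h (Euler.stalkLin_genericPoint_bijective
    (HodgeIndex.invertible_of_effCartier hD) Euler.isInvertible_structure
    (Kodaira.exists_ne_zero_of_mono (HodgeIndex.invertible_of_effCartier hD) (ClSub.idealModι I))).2

include k in
theorem isCoh_quotMod (I : X.IdealSheafData) (hD : FGA.IsEffCartier I) : Coh.IsCoh (ClSub.quotMod I) := by
  haveI := Euler.isNoetherian_of_proper (X := X) k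
  haveI := Euler.epi_toSubscheme I
  exact QCoh.isCoh_of_iso
    (cokernelKernelIsoOfEpi (ClSub.toSubscheme I))
    (QCoh.isCoh_cokernel _ (Euler.isCoh_of_isInvertible (HodgeIndex.invertible_of_effCartier hD))
      (Euler.isCoh_of_isInvertible Euler.isInvertible_structure))
where
  cokernelKernelIsoOfEpi {A B : X.Modules} (p : A ⟶ B) [Epi p] : cokernel (kernel.ι p) ≅ B :=
    IsColimit.coconePointUniqueUpToIso (cokernelIsCokernel _)
      (ShortComplex.exact_of_f_is_kernel (ShortComplex.mk (kernel.ι p) p (kernel.condition p))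
        (kernelIsKernel p)).gIsCokernel

variable (hd : topologicalKrullDim X ≤ 1) {I : X.IdealSheafData} (hD : FGA.IsEffCartier I)

include k hd hD in
theorem finite_support_quotMod :
    (CohB1.support (ClSub.quotMod I)).Finite ∧ ∀ x ∈ CohB1.support (ClSub.quotMod I), IsClosed ({x} : Set X) :=
  Euler.finite_support_of_notMem_genericPoint k hd (isCoh_quotMod k I hD)
    fun h => genericPoint_notMem k hD (Snapper.support_quotMod I h)

include k hd hD in
/-- Coherence, finite support and sections of a restricted bundle. -/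
theorem resD_data {n : ℕ} {E : X.Modules} (hE : FlatMod.IsFinLocFreeOfRank n E) :
    Coh.IsCoh (ParSh.resD I E) ∧ (CohB1.support (ParSh.resD I E)).Finite ∧
      (∀ x ∈ CohB1.support (ParSh.resD I E), IsClosed ({x} : Set X)) ∧
      Module.finrank k (ParSh.fibD X I E) = n * Module.finrank k (Coh.HH X (ClSub.quotMod I) 0) := by
  haveI := Euler.isNoetherian_of_proper (X := X) k
  let e : (tF E).obj (ClSub.quotMod I) ≅ ParSh.resD I E := GrTilde.tensorModComm _ _
  obtain ⟨hfin, hcl⟩ := finite_support_quotMod k hd hD
  have hQ := isCoh_quotMod k I hD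
  have hcoh := QCoh.isCoh_of_iso e (Euler.isCoh_tF hQ (FinCov.isFinLocFree_of_rank hE))
  have hsub : CohB1.support (ParSh.resD I E) ⊆ CohB1.support (ClSub.quotMod I) := by
    rw [← QCoh.support_eq_of_iso e]
    exact Euler.support_tF_subset hE
  refine ⟨hcoh, hfin.subset hsub, fun x hx => hcl x (hsub hx), ?_⟩
  have h := Euler.euler_tF_of_finite_support k hE hQ hfin hcl
  rw [Euler.euler_eq_of_finite_support k _ hfin hcl, Euler.euler_of_iso k e,
    Euler.euler_eq_of_finite_support k _ (hfin.subset hsub) (fun x hx => hcl x (hsub hx))] at h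
  exact_mod_cast h

include hd hD in
theorem finiteDimensional_fibD {n : ℕ} {E : X.Modules} (hE : FlatMod.IsFinLocFreeOfRank n E) :
    FiniteDimensional k (ParSh.fibD X I E) :=
  Euler.finiteDimensional_HH k (resD_data k hd hD hE).1 0

theorem finrank_comap_le_of_range {V W : Type*} [AddCommGroup V] [AddCommGroup W] [Module k V] [Module k W]
    [FiniteDimensional k V] [FiniteDimensional k W] (f : V →ₗ[k] W) (p : Submodule k W) {q : ℕ}
    (hdim : Module.finrank k V = Module.finrank k W)
    (hr : Module.finrank k W ≤ Module.finrank k (LinearMap.range f) + q) :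
    Module.finrank k (p.comap f) ≤ Module.finrank k p + q := by
  have hk := LinearMap.finrank_range_add_finrank_ker f
  let g := f.domRestrict (p.comap f)
  have h1 := LinearMap.finrank_range_add_finrank_ker g
  have h2 : Module.finrank k (LinearMap.range g) ≤ Module.finrank k p :=
    Submodule.finrank_mono (by rintro _ ⟨⟨x, hx⟩, rfl⟩; exact hx)
  have h3 : Module.finrank k (LinearMap.ker g) ≤ Module.finrank k (LinearMap.ker f) :=
    LinearMap.finrank_le_finrank_of_injective
      (f := LinearMap.codRestrict (LinearMap.ker f) ((p.comap f).subtype.comp (LinearMap.ker g).subtype) fun x => x.2)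
      fun a b h => Subtype.ext (Subtype.ext (congrArg Subtype.val h :))
  omega

theorem exists_epi_comp {C : Type*} [Category C] {A B D G : C} (a : A ⟶ B) [Epi a] (b : B ⟶ D) [Epi b]
    (c : D ≅ G) : ∃ w : A ⟶ G, Epi w := ⟨a ≫ b ≫ c.hom, inferInstance⟩

/-- The restricted cokernel is a quotient of the cokernel. -/
theorem exists_epi_cokernel_resDMap {F E : X.Modules} (i : F ⟶ E) :
    ∃ w : cokernel i ⟶ cokernel (ParSh.resDMap I i), Epi w := by
  haveI : Epi (ClSub.toSubscheme I) := Euler.epi_toSubscheme I
  haveI : PreservesColimitsOfSize.{0, 0} ((DCoh.tensorBi (X := X)).obj (cokernel i)) :=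
    preservesColimitsOfSize_shrink.{0, u, 0, u} _
  have h1 : Epi (((DCoh.tensorBi (X := X)).obj (cokernel i)).map (ClSub.toSubscheme I)) := Functor.map_epi _ _
  let a : cokernel i ⟶ CohB1.tensorMod (cokernel i) (Coh.structureModule X) := (SecTwist.unitorR (cokernel i)).inv
  haveI : Epi a := @IsIso.epi_of_iso _ _ _ _ _ (SecTwist.unitorR (cokernel i)).isIso_inv
  let j := PreservesCokernel.iso (tF (ClSub.quotMod I)) i
  let b : CohB1.tensorMod (cokernel i) (Coh.structureModule X) ⟶ CohB1.tensorMod (cokernel i) (ClSub.quotMod I) :=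
    KoszTw.tensorMap (𝟙 _) (ClSub.toSubscheme I)
  haveI : Epi b := by
    rw [KoszTw.tensorBi_obj_map] at h1
    exact h1
  have c0 : cokernel ((tF (ClSub.quotMod I)).map i) ≅ cokernel (ParSh.resDMap I i) :=
    cokernelIsoOfEq (KoszTw.tensorBi_map_app i (ClSub.quotMod I))
  exact exists_epi_comp a b (j ≪≫ c0)

include hd hD in
theorem finrank_gpInduced_le {n : ℕ} {F E : X.Modules} (hF : FlatMod.IsFinLocFreeOfRank n F)
    (hE : FlatMod.IsFinLocFreeOfRank n E) (i : F ⟶ E) (hC : Coh.IsCoh (cokernel i))
    (hCfin : (CohB1.support (cokernel i)).Finite) (hCcl : ∀ x ∈ CohB1.support (cokernel i), IsClosed ({x} : Set X))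
    (F₁ : Submodule k (ParSh.fibD X I E)) :
    Module.finrank k (ParSh.gpInduced k X I i F₁) ≤
      Module.finrank k F₁ + Module.finrank k (Coh.HH X (cokernel i) 0) := by
  haveI := Euler.isNoetherian_of_proper (X := X) k
  obtain ⟨hFD, hFfin, hFcl, hFdim⟩ := resD_data k hd hD hF
  obtain ⟨hED, hEfin, hEcl, hEdim⟩ := resD_data k hd hD hE
  haveI : FiniteDimensional k (ParSh.fibD X I F) := finiteDimensional_fibD k hd hD hF
  haveI : FiniteDimensional k (ParSh.fibD X I E) := finiteDimensional_fibD k hd hD hE
  obtain ⟨w, hw⟩ := exists_epi_cokernel_resDMap (I := I) i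
  have h1 := finrank_H0_le_of_epi k w hC (QCoh.isCoh_cokernel _ hFD hED) hCfin hCcl
  exact finrank_comap_le_of_range k (ParSh.fibDMap k X I i) F₁ (hFdim.trans hEdim.symm)
    ((finrank_range_ge k (ParSh.resDMap I i) hFD hED hFfin hFcl hEfin hEcl).trans (Nat.add_le_add_left h1 _))

include hd hD in
/-- A full-rank submodule: its weight exceeds that of the bundle by at most the drop of the degree. -/
theorem finrank_comap_le {n : ℕ} {F E : X.Modules} (hF : FlatMod.IsFinLocFreeOfRank n F)
    (hE : FlatMod.IsFinLocFreeOfRank n E) (i : F ⟶ E) [Mono i] (F₁ : Submodule k (ParSh.fibD X I E)) :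
    ∃ q : ℕ, Curv2.deg k X E n = Curv2.deg k X F n + q ∧
      Module.finrank k (ParSh.gpInduced k X I i F₁) ≤ Module.finrank k F₁ + q ∧
      (q = 0 → IsIso i) := by
  haveI := Euler.isNoetherian_of_proper (X := X) k
  have hFc := Euler.isCoh_of_isFinLocFree (FinCov.isFinLocFree_of_rank hF)
  have hEc := Euler.isCoh_of_isFinLocFree (FinCov.isFinLocFree_of_rank hE)
  have hη := Euler.surjective_generic_of_mono i hEc (by rw [Euler.grank_of_locFree hF, Euler.grank_of_locFree hE])
  have hC := QCoh.isCoh_cokernel i hFc hEc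
  obtain ⟨hCfin, hCcl⟩ := Euler.finite_support_of_notMem_genericPoint k hd hC
    (QCoh.notMem_support_cokernel_of_surjective i hη)
  refine ⟨Module.finrank k (Coh.HH X (cokernel i) 0), ?_, finrank_gpInduced_le k hd hD hF hE i hC hCfin hCcl F₁,
    fun hq => ?_⟩
  · have hS : (ShortComplex.mk i (cokernel.π i) (cokernel.condition i)).ShortExact :=
      { exact := ShortComplex.exact_of_g_is_cokernel _ (cokernelIsCokernel i) }
    have h := Euler.euler_additive (S := ShortComplex.mk i (cokernel.π i) (cokernel.condition i)) k hS hFc hEc hC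
    dsimp only at h
    rw [Euler.euler_eq_of_finite_support k _ hCfin hCcl] at h
    simp only [Curv2.deg, h]; ring
  · haveI := Euler.finiteDimensional_HH k hC 0
    haveI : Epi i := Preadditive.epi_of_isZero_cokernel i
      (Euler.isZero_of_subsingleton_H0 _ hCfin hCcl (Module.finrank_zero_iff.1 hq))
    exact isIso_of_mono_of_epi i

end GrothLib.ParHilb
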