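import Groth.Agent.Lib.ParHilb.GPCurve
import Groth.Agent.Lib.Euler.Torsion
import Groth.Agent.Lib.QCoh.Devissage
import Groth.Agent.Lib.Euler.Scalar

/-!
# Homomorphisms of semistable generalised parabolic bundles on curves
-/

set_option autoImplicit false
set_option linter.all false
set_option backward.isDefEq.respectTransparency false

universe u

open CategoryTheory CategoryTheory.Limits AlgebraicGeometry TopologicalSpace

noncomputable section

namespace GrothLib.ParHilb

open GrothLib.Euler (tF grank degree)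

variable {X : Scheme.{u}} (k : Type u) [Field k] [X.Over (Spec (CommRingCat.of k))]
  [IsProper (X ↘ Spec (CommRingCat.of k))] {I : X.IdealSheafData}

omit [IsProper (X ↘ Spec (CommRingCat.of k))] in
theorem hhMap_add' {M N : X.Modules} (f g : M ⟶ N) (x : Coh.HH X M 0) :
    Cohom.hhMap k (f + g) 0 x = Cohom.hhMap k f 0 x + Cohom.hhMap k g 0 x := by
  rw [Cohom.hhMap_apply, Cohom.hhMap_apply, Cohom.hhMap_apply,
    show (QCoh.toAbFun X).map (f + g) = (QCoh.toAbFun X).map f + (QCoh.toAbFun X).map g from Functor.map_add _,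
    Cohom.H_map_eq_comp, Abelian.Ext.mk₀_add, Abelian.Ext.comp_add]
  rfl

omit [IsProper (X ↘ Spec (CommRingCat.of k))] in
theorem hhMap_zero' {M N : X.Modules} (x : Coh.HH X M 0) : Cohom.hhMap k (0 : M ⟶ N) 0 x = 0 :=
  add_eq_left.1 (by rw [← hhMap_add', add_zero] : Cohom.hhMap k (0 : M ⟶ N) 0 x + Cohom.hhMap k (0 : M ⟶ N) 0 x =
    Cohom.hhMap k (0 : M ⟶ N) 0 x)

omit [IsProper (X ↘ Spec (CommRingCat.of k))] in
theorem fibDMap_comp {A B C : X.Modules} (f : A ⟶ B) (g : B ⟶ C) :
    ParSh.fibDMap k X I (f ≫ g) = (ParSh.fibDMap k X I g).comp (ParSh.fibDMap k X I f) := by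
  refine LinearMap.ext fun x => ?_
  show Cohom.hhMap k (ParSh.resDMap I (f ≫ g)) 0 x =
    Cohom.hhMap k (ParSh.resDMap I g) 0 (Cohom.hhMap k (ParSh.resDMap I f) 0 x)
  rw [← Euler.hhMap_comp]
  congr 2
  show KoszTw.tensorMap (f ≫ g) (𝟙 _) = _
  rw [← KoszTw.tensorMap_comp, Category.comp_id]

omit [IsProper (X ↘ Spec (CommRingCat.of k))] in
theorem gpInduced_comp {A B C : X.Modules} (f : A ⟶ B) (g : B ⟶ C) (F₁ : Submodule k (ParSh.fibD X I C)) :
    ParSh.gpInduced k X I (f ≫ g) F₁ = (ParSh.gpInduced k X I g F₁).comap (ParSh.fibDMap k X I f) := by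
  rw [ParSh.gpInduced, ParSh.gpInduced, fibDMap_comp, Submodule.comap_comp]

omit [IsProper (X ↘ Spec (CommRingCat.of k))] in
theorem isZero_cokernel_resDMap {A B : X.Modules} (f : A ⟶ B) [Epi f] :
    IsZero (cokernel (ParSh.resDMap I f)) := by
  have h : Epi ((tF (ClSub.quotMod I)).map f) := Functor.map_epi _ _
  have h' : Epi (ParSh.resDMap I f) := by
    have e : (tF (ClSub.quotMod I)).map f = ParSh.resDMap I f := KoszTw.tensorBi_map_app f (ClSub.quotMod I)
    rw [← e]; exact h
  exact isZero_cokernel_of_epi _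

omit [IsProper (X ↘ Spec (CommRingCat.of k))] in
theorem nonempty_cokernel_resDMap_iso {A B C : X.Modules} {f : A ⟶ B} {g : B ⟶ C} {w : f ≫ g = 0}
    (hS : (ShortComplex.mk f g w).ShortExact) :
    Nonempty (cokernel (ParSh.resDMap I f) ≅ ParSh.resD I C) := by
  haveI : Epi g := hS.epi_g
  let e : cokernel f ≅ C := IsColimit.coconePointUniqueUpToIso (cokernelIsCokernel f) hS.exact.gIsCokernel
  let j := PreservesCokernel.iso (tF (ClSub.quotMod I)) f
  have c0 : cokernel ((tF (ClSub.quotMod I)).map f) ≅ cokernel (ParSh.resDMap I f) :=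
    cokernelIsoOfEq (KoszTw.tensorBi_map_app f (ClSub.quotMod I))
  let e' : (tF (ClSub.quotMod I)).obj (cokernel f) ≅ (tF (ClSub.quotMod I)).obj C :=
    (tF (ClSub.quotMod I)).mapIso e
  exact ⟨(c0.symm ≪≫ j.symm) ≪≫ e'⟩

theorem finrank_le_of_exact_ranks {U V W : Type*} [AddCommGroup U] [AddCommGroup V] [AddCommGroup W] [Module k U]
    [Module k V] [Module k W] [FiniteDimensional k U] [FiniteDimensional k V] [FiniteDimensional k W]
    (a : U →ₗ[k] V) (p : V →ₗ[k] W) (h0 : p.comp a = 0)
    (hdim : Module.finrank k V = Module.finrank k U + Module.finrank k W)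
    (ha : Module.finrank k V ≤ Module.finrank k (LinearMap.range a) + Module.finrank k W)
    (hp : Module.finrank k W ≤ Module.finrank k (LinearMap.range p))
    (F₁ : Submodule k V) :
    Module.finrank k F₁ ≤ Module.finrank k (F₁.comap a) + Module.finrank k (F₁.map p) := by
  have hle : LinearMap.range a ≤ LinearMap.ker p := LinearMap.range_le_ker_iff.2 h0
  have hkp := LinearMap.finrank_range_add_finrank_ker p
  have heq : LinearMap.range a = LinearMap.ker p := Submodule.eq_of_le_of_finrank_le hle (by omega)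
  let g := p.domRestrict F₁
  have h1 := LinearMap.finrank_range_add_finrank_ker g
  have h2 : LinearMap.range g = F₁.map p := by rw [LinearMap.range_domRestrict]
  have h3 : Module.finrank k (LinearMap.ker g) ≤ Module.finrank k (F₁.comap a) := by
    have e1 : Module.finrank k (LinearMap.ker g) ≤ Module.finrank k (Submodule.map a (F₁.comap a)) := by
      refine LinearMap.finrank_le_finrank_of_injective
        (f := LinearMap.codRestrict _ (F₁.subtype.comp (LinearMap.ker g).subtype) fun x => ?_)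
        fun x y h => Subtype.ext (Subtype.ext (congrArg Subtype.val h :))
      have hx : ((x.1 : F₁) : V) ∈ LinearMap.range a := by rw [heq]; exact x.2
      obtain ⟨z, hz⟩ := hx
      exact ⟨z, show a z ∈ F₁ by rw [hz]; exact x.1.2, hz⟩
    exact e1.trans (Submodule.finrank_map_le _ _)
  rw [h2] at h1
  omega

variable [IsIntegral X] (hd : topologicalKrullDim X ≤ 1) (hD : FGA.IsEffCartier I)

include hd hD in
/-- Weights are subadditive along short exact sequences of bundles. -/
theorem finrank_le_of_shortExact {A B C : X.Modules} {a : A ⟶ B} {p : B ⟶ C} {w : a ≫ p = 0}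
    (hS : (ShortComplex.mk a p w).ShortExact) {r s : ℕ} (hA : FlatMod.IsFinLocFreeOfRank r A)
    (hB : FlatMod.IsFinLocFreeOfRank (r + s) B) (hC : FlatMod.IsFinLocFreeOfRank s C)
    (F₁ : Submodule k (ParSh.fibD X I B)) :
    Module.finrank k F₁ ≤
      Module.finrank k (F₁.comap (ParSh.fibDMap k X I a)) + Module.finrank k (F₁.map (ParSh.fibDMap k X I p)) := by
  haveI : Epi p := hS.epi_g
  obtain ⟨hAD, hAfin, hAcl, hAdim⟩ := resD_data k hd hD hA
  obtain ⟨hBD, hBfin, hBcl, hBdim⟩ := resD_data k hd hD hB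
  obtain ⟨hCD, hCfin, hCcl, hCdim⟩ := resD_data k hd hD hC
  haveI : FiniteDimensional k (ParSh.fibD X I A) := finiteDimensional_fibD k hd hD hA
  haveI : FiniteDimensional k (ParSh.fibD X I B) := finiteDimensional_fibD k hd hD hB
  haveI : FiniteDimensional k (ParSh.fibD X I C) := finiteDimensional_fibD k hd hD hC
  have ha := finrank_range_ge k (ParSh.resDMap I a) hAD hBD hAfin hAcl hBfin hBcl
  have hp := finrank_range_ge k (ParSh.resDMap I p) hBD hCD hBfin hBcl hCfin hCcl
  obtain ⟨e⟩ := nonempty_cokernel_resDMap_iso (I := I) hS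
  have h1 : Module.finrank k (Coh.HH X (cokernel (ParSh.resDMap I a)) 0) = Module.finrank k (ParSh.fibD X I C) := by
    haveI := Euler.isNoetherian_of_proper (X := X) k
    have hQ : Coh.IsCoh (cokernel (ParSh.resDMap I a)) := QCoh.isCoh_cokernel _ hAD hBD
    have he := Euler.euler_of_iso k e
    have hsub : CohB1.support (cokernel (ParSh.resDMap I a)) ⊆ CohB1.support (ParSh.resD I B) :=
      QCoh.support_subset_of_epi (cokernel.π _)
    rw [Euler.euler_eq_of_finite_support k _ (hBfin.subset hsub) (fun x hx => hBcl x (hsub hx)),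
      Euler.euler_eq_of_finite_support k _ hCfin hCcl] at he
    exact_mod_cast he
  have h2 : Module.finrank k (Coh.HH X (cokernel (ParSh.resDMap I p)) 0) = 0 := by
    have hz := Euler.euler_eq_of_finite_support k (cokernel (ParSh.resDMap I p))
      (hCfin.subset (QCoh.support_subset_of_epi (cokernel.π _)))
      (fun x hx => hCcl x (QCoh.support_subset_of_epi (cokernel.π _) hx))
    rw [Snapper.euler_eq_zero_of_isZero k (isZero_cokernel_resDMap p)] at hz
    exact_mod_cast hz.symm
  refine finrank_le_of_exact_ranks k (ParSh.fibDMap k X I a) (ParSh.fibDMap k X I p) ?_ ?_ ?_ ?_ F₁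
  · refine LinearMap.ext fun x => ?_
    rw [← fibDMap_comp, w]
    show Cohom.hhMap k (ParSh.resDMap I (0 : A ⟶ C)) 0 x = 0
    have : ParSh.resDMap I (0 : A ⟶ C) = 0 := by
      show KoszTw.tensorMap (0 : A ⟶ C) (𝟙 _) = 0
      rw [← KoszTw.tensorBi_map_app]
      exact (tF (ClSub.quotMod I)).map_zero A C
    rw [this]
    exact hhMap_zero' k x
  · rw [hAdim, hBdim, hCdim, add_mul]
  · exact h1 ▸ ha
  · exact le_of_le_of_eq hp (by rw [h2, add_zero])

set_option maxHeartbeats 400000 in
include hd hD in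
/-- Kernel and image of a parabolic homomorphism of semistable bundles of the same slope. -/
theorem gp_hom_data (hpid : ∀ x : X, IsPrincipalIdealRing (X.presheaf.stalk x)) (α : ℝ) (hα0 : 0 ≤ α)
    {E F : X.Modules} (n m : ℕ) (hn : 0 < n) (hm : 0 < m)
    (hE : FlatMod.IsFinLocFreeOfRank n E) (hF : FlatMod.IsFinLocFreeOfRank m F)
    (F₁ : Submodule k (ParSh.fibD X I E)) (F₁' : Submodule k (ParSh.fibD X I F))
    (hEss : ParSh.IsGPSemistable k X I α F₁ n) (hFss : ParSh.IsGPSemistable k X I α F₁' m)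
    (hμ : ParSh.gpDeg k X α E F₁ n * (m : ℝ) = ParSh.gpDeg k X α F F₁' m * (n : ℝ))
    (f : E ⟶ F) (hf : ParSh.IsGPHom k X I F₁ F₁' f) :
    ∃ rK rJ : ℕ, n = rK + rJ ∧ FlatMod.IsFinLocFreeOfRank rK (kernel f) ∧
      FlatMod.IsFinLocFreeOfRank rJ (Abelian.image f) ∧
      ParSh.gpDeg k X α (kernel f) (ParSh.gpInduced k X I (kernel.ι f) F₁) rK * (n : ℝ) =
        ParSh.gpDeg k X α E F₁ n * (rK : ℝ) ∧
      ParSh.gpDeg k X α (Abelian.image f) (ParSh.gpInduced k X I (Abelian.image.ι f) F₁') rJ * (m : ℝ) =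
        ParSh.gpDeg k X α F F₁' m * (rJ : ℝ) := by
  haveI := Euler.isNoetherian_of_proper (X := X) k
  have hEc := Euler.isCoh_of_isFinLocFree (FinCov.isFinLocFree_of_rank hE)
  have hFc := Euler.isCoh_of_isFinLocFree (FinCov.isFinLocFree_of_rank hF)
  have hKc := QCoh.isCoh_kernel f hEc hFc
  have hJc : Coh.IsCoh (Abelian.image f) := QCoh.isCoh_kernel _ hFc (QCoh.isCoh_cokernel f hEc hFc)
  have hK := Euler.isFinLocFreeOfRank_of_mono hpid (kernel.ι f) hKc (FinCov.isFinLocFree_of_rank hE)
  have hJ := Euler.isFinLocFreeOfRank_of_mono hpid (Abelian.image.ι f) hJc (FinCov.isFinLocFree_of_rank hF)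
  obtain ⟨w, hS⟩ := QCoh.shortExact_kernel_image f
  have hg := Euler.grank_additive (S := ShortComplex.mk (kernel.ι f) (Abelian.factorThruImage f) w) hS hEc
  dsimp only at hg
  rw [Euler.grank_of_locFree hE] at hg
  have hdeg := Euler.degree_additive (S := ShortComplex.mk (kernel.ι f) (Abelian.factorThruImage f) w) k hS hKc hEc hJc
  dsimp only at hdeg
  generalize hrK : grank (kernel f) = rK at hK hg
  generalize hrJ : grank (Abelian.image f) = rJ at hJ hg
  refine ⟨rK, rJ, hg, hK, hJ, ?_⟩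
  haveI : FiniteDimensional k (ParSh.fibD X I (Abelian.image f)) := finiteDimensional_fibD k hd hD hJ
  have hsub : Module.finrank k F₁ ≤ Module.finrank k (ParSh.gpInduced k X I (kernel.ι f) F₁) +
      Module.finrank k (ParSh.gpInduced k X I (Abelian.image.ι f) F₁') := by
    refine (finrank_le_of_shortExact k hd hD hS hK (hg ▸ hE) hJ F₁).trans (Nat.add_le_add_left ?_ _)
    refine Submodule.finrank_mono ?_
    rw [ParSh.gpInduced, ← Submodule.map_le_iff_le_comap, ← Submodule.map_comp, ← fibDMap_comp, Abelian.image.fac]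
    exact hf
  have hzero : ∀ (G : X.Modules) (S : Submodule k (ParSh.fibD X I G)), FlatMod.IsFinLocFreeOfRank 0 G →
      ParSh.gpDeg k X α G S 0 = 0 := by
    intro G S hG
    obtain ⟨-, -, -, hdim⟩ := resD_data k hd hD hG
    haveI : FiniteDimensional k (ParSh.fibD X I G) := finiteDimensional_fibD k hd hD hG
    have hS0 : Module.finrank k S = 0 := by
      have := Submodule.finrank_le S
      rw [hdim, zero_mul] at this
      omega
    simp [ParSh.gpDeg, ParSh.gpWt, hS0, Euler.deg_eq_degree k hG, Euler.degree_of_isZero k (Euler.isZero_of_rank_zero hG)]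
  have h1 : ParSh.gpDeg k X α (kernel f) (ParSh.gpInduced k X I (kernel.ι f) F₁) rK * (n : ℝ) ≤
      ParSh.gpDeg k X α E F₁ n * (rK : ℝ) := by
    rcases Nat.eq_zero_or_pos rK with rfl | hpos
    · rw [hzero _ _ hK]; simp
    · exact hEss _ rK (kernel.ι f) inferInstance hpos hK
  have h2 : ParSh.gpDeg k X α (Abelian.image f) (ParSh.gpInduced k X I (Abelian.image.ι f) F₁') rJ * (m : ℝ) ≤
      ParSh.gpDeg k X α F F₁' m * (rJ : ℝ) := by
    rcases Nat.eq_zero_or_pos rJ with rfl | hpos
    · rw [hzero _ _ hJ]; simp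
    · exact hFss _ rJ (Abelian.image.ι f) inferInstance hpos hJ
  have h3 : ParSh.gpDeg k X α E F₁ n ≤ ParSh.gpDeg k X α (kernel f) (ParSh.gpInduced k X I (kernel.ι f) F₁) rK +
      ParSh.gpDeg k X α (Abelian.image f) (ParSh.gpInduced k X I (Abelian.image.ι f) F₁') rJ := by
    simp only [ParSh.gpDeg, ParSh.gpWt, Euler.deg_eq_degree k hE, Euler.deg_eq_degree k hK, Euler.deg_eq_degree k hJ, hdeg]
    push_cast
    have : α * (Module.finrank k F₁ : ℝ) ≤ α * Module.finrank k (ParSh.gpInduced k X I (kernel.ι f) F₁) +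
        α * Module.finrank k (ParSh.gpInduced k X I (Abelian.image.ι f) F₁') := by
      rw [← mul_add]; exact mul_le_mul_of_nonneg_left (by exact_mod_cast hsub) hα0
    linarith
  generalize ParSh.gpDeg k X α E F₁ n = pE at h1 h3 hμ ⊢
  generalize ParSh.gpDeg k X α F F₁' m = pF at h2 hμ ⊢
  generalize ParSh.gpDeg k X α (kernel f) (ParSh.gpInduced k X I (kernel.ι f) F₁) rK = pK at h1 h3 ⊢
  generalize ParSh.gpDeg k X α (Abelian.image f) (ParSh.gpInduced k X I (Abelian.image.ι f) F₁') rJ = pJ at h2 h3 ⊢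
  have hnR : (n : ℝ) = rK + rJ := by exact_mod_cast hg
  have hm' : (0 : ℝ) < m := by exact_mod_cast hm
  have hn' : (0 : ℝ) < n := by exact_mod_cast hn
  have h2' : pJ * n ≤ pE * rJ := by
    have := mul_le_mul_of_nonneg_right h2 hn'.le
    have e : pF * (rJ : ℝ) * n = pE * rJ * m := by rw [mul_right_comm, ← hμ]; ring
    rw [e] at this
    exact le_of_mul_le_mul_right (by linarith) hm'
  have h3' := mul_le_mul_of_nonneg_right h3 hn'.le
  have hsum : pE * (n : ℝ) = pE * rK + pE * rJ := by rw [hnR]; ring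
  have eK : pK * n = pE * rK := by linarith
  have eJ : pJ * n = pE * rJ := by linarith
  refine ⟨eK, mul_right_cancel₀ hn'.ne' ?_⟩
  rw [mul_right_comm, eJ, mul_right_comm pF, ← hμ]
  ring

set_option maxHeartbeats 400000 in
include hd hD in
/-- A subbundle of maximal parabolic slope has locally free quotient. -/
theorem isFinLocFreeOfRank_cokernel_of_gpMax (hpid : ∀ x : X, IsPrincipalIdealRing (X.presheaf.stalk x))
    (α : ℝ) (hα0 : 0 ≤ α) (hα1 : α < 1) {E P : X.Modules} {n r : ℕ} (hn : 0 < n) (hr : 0 < r)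
    (hE : FlatMod.IsFinLocFreeOfRank n E) (hP : FlatMod.IsFinLocFreeOfRank r P) (i : P ⟶ E) [Mono i]
    (F₁ : Submodule k (ParSh.fibD X I E)) (hss : ParSh.IsGPSemistable k X I α F₁ n)
    (heq : ParSh.gpDeg k X α P (ParSh.gpInduced k X I i F₁) r * (n : ℝ) = ParSh.gpDeg k X α E F₁ n * (r : ℝ)) :
    FlatMod.IsFinLocFreeOfRank (grank (cokernel i)) (cokernel i) := by
  haveI := Euler.isNoetherian_of_proper (X := X) k
  have hPc := Euler.isCoh_of_isFinLocFree (FinCov.isFinLocFree_of_rank hP)
  have hEc := Euler.isCoh_of_isFinLocFree (FinCov.isFinLocFree_of_rank hE)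
  have hC : Coh.IsCoh (cokernel i) := QCoh.isCoh_cokernel i hPc hEc
  obtain ⟨T, Q, ι, π, w, hT, hTc, hQc, hη, htf⟩ := Euler.exists_torsion_sequence hC
  haveI : Epi π := hT.epi_g
  let q := cokernel.π i ≫ π
  have hq : i ≫ q = 0 := by
    show i ≫ cokernel.π i ≫ π = 0
    rw [← Category.assoc, cokernel.condition, zero_comp]
  let l : P ⟶ kernel q := kernel.lift q i hq
  have hl : l ≫ kernel.ι q = i := kernel.lift_ι _ _ _
  haveI : Mono (l ≫ kernel.ι q) := by rw [hl]; infer_instance
  haveI : Mono l := mono_of_mono l (kernel.ι q)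
  have hS : (ShortComplex.mk i (cokernel.π i) (cokernel.condition i)).ShortExact :=
    { exact := ShortComplex.exact_of_g_is_cokernel _ (cokernelIsCokernel i) }
  have hK : (ShortComplex.mk (kernel.ι q) q (kernel.condition q)).ShortExact :=
    { exact := ShortComplex.exact_of_f_is_kernel _ (kernelIsKernel _) }
  have hKc := QCoh.isCoh_kernel q hEc hQc
  have d1 := Euler.degree_additive (S := ShortComplex.mk i (cokernel.π i) (cokernel.condition i)) k hS hPc hEc hC
  have d2 := Euler.degree_additive (S := ShortComplex.mk ι π w) k hT hTc hC hQc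
  have d3 := Euler.degree_additive (S := ShortComplex.mk (kernel.ι q) q (kernel.condition q)) k hK hKc hEc hQc
  have g1 := Euler.grank_additive (S := ShortComplex.mk i (cokernel.π i) (cokernel.condition i)) hS hEc
  have g2 := Euler.grank_additive (S := ShortComplex.mk ι π w) hT hC
  have g3 := Euler.grank_additive (S := ShortComplex.mk (kernel.ι q) q (kernel.condition q)) hK hEc
  dsimp only at d1 d2 d3 g1 g2 g3
  have gT := Euler.grank_eq_zero_of_notMem hη
  have gP := Euler.grank_of_locFree hP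
  have hKlf := Euler.isFinLocFreeOfRank_of_mono hpid (kernel.ι q) hKc (FinCov.isFinLocFree_of_rank hE)
  rw [show grank (kernel q) = r by omega] at hKlf
  obtain ⟨c, hc, hcle, -⟩ := finrank_comap_le k hd hD hP hKlf l (ParSh.gpInduced k X I (kernel.ι q) F₁)
  have hmax := hss (kernel q) r (kernel.ι q) inferInstance hr hKlf
  rw [ParSh.gpInduced, ← gpInduced_comp, hl] at hcle
  have hc0 : c = 0 := by
    have h1 : ParSh.gpDeg k X α P (ParSh.gpInduced k X I i F₁) r + (1 - α) * c ≤
        ParSh.gpDeg k X α (kernel q) (ParSh.gpInduced k X I (kernel.ι q) F₁) r := by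
      simp only [ParSh.gpDeg, ParSh.gpWt, hc]
      push_cast
      have : α * (Module.finrank k (ParSh.gpInduced k X I i F₁) : ℝ) ≤
          α * Module.finrank k (ParSh.gpInduced k X I (kernel.ι q) F₁) + α * c := by
        rw [← mul_add]; exact mul_le_mul_of_nonneg_left (by exact_mod_cast hcle) hα0
      linarith
    have h2 := mul_le_mul_of_nonneg_right h1 (Nat.cast_nonneg (α := ℝ) n)
    by_contra hne
    have h3 : (0 : ℝ) < (1 - α) * c * n :=
      mul_pos (mul_pos (by linarith) (by exact_mod_cast Nat.pos_of_ne_zero hne)) (by exact_mod_cast hn)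
    linarith
  rw [Euler.deg_eq_degree k hP, Euler.deg_eq_degree k hKlf, hc0] at hc
  have hz := (Euler.degree_nonneg_of_notMem k hd hTc hη).2 (by omega)
  haveI : Mono π := hT.exact.mono_g (hz.eq_of_src _ _)
  refine Euler.isFinLocFreeOfRank_of_torsionFree hpid hC fun x => ?_
  haveI := htf x
  exact Function.Injective.moduleIsTorsionFree (QCoh.stalkLin π x) (QCoh.stalkLin_injective π x) (map_smul _)

end GrothLib.ParHilb

namespace GrothLib.ParHilb

open Opposite

variable {X : Scheme.{u}}

theorem tensorMod_ext {A B T : X.Modules} {p q : CohB1.tensorMod A B ⟶ T}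
    (h : ∀ (U : X.Opens) (s : Γ(A, U)) (t : Γ(B, U)),
      p.app U (SecTwist.tmul A B U s t) = q.app U (SecTwist.tmul A B U s t)) : p = q := by
  refine ((PresheafOfModules.sheafificationAdjunction (R := X.ringCatSheaf) (𝟙 X.ringCatSheaf.obj)).homEquiv
    (CohB1.tensorPre A B : X.PresheafOfModules) T).injective ?_
  refine ((Adjunction.homEquiv_unit _ _ _ _).trans ?_).trans (Adjunction.homEquiv_unit _ _ _ _).symm
  exact PresheafOfModules.hom_ext fun U => ModuleCat.MonoidalCategory.tensor_ext fun s t => h U.unop s t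

theorem tensorMap_smulMod (E Q : X.Modules) (r : Coh.Γtop X) :
    KoszTw.tensorMap (Euler.smulMod E r) (𝟙 Q) = Euler.smulMod (CohB1.tensorMod E Q) r := by
  refine tensorMod_ext fun U s t => ?_
  rw [KoszTw.tensorMap_tmul, Euler.smulMod_app, Euler.smulMod_app]
  exact ((SecTwist.toTensor E Q).app (op U)).hom.map_smul
    (X.presheaf.map (homOfLE (le_top : U ≤ ⊤)).op r : Γ(X, U)) (s ⊗ₜ t)

theorem fibDMap_smulMod (k : Type u) [Field k] [X.Over (Spec (CommRingCat.of k))] (I : X.IdealSheafData)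
    (E : X.Modules) (c : k) (x : ParSh.fibD X I E) :
    ParSh.fibDMap k X I (Euler.smulMod E (Coh.toGlobal (X ↘ Spec (CommRingCat.of k)) c)) x = c • x := by
  show Cohom.hhMap k (ParSh.resDMap I (Euler.smulMod E _)) 0 x = _
  rw [show ParSh.resDMap I (Euler.smulMod E (Coh.toGlobal (X ↘ Spec (CommRingCat.of k)) c)) =
    Euler.smulMod (ParSh.resD I E) (Coh.toGlobal (X ↘ Spec (CommRingCat.of k)) c) from tensorMap_smulMod _ _ _]
  rfl

theorem fibDMap_sub (k : Type u) [Field k] [X.Over (Spec (CommRingCat.of k))] (I : X.IdealSheafData)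
    {A B : X.Modules} (f g : A ⟶ B) :
    ParSh.fibDMap k X I (f - g) = ParSh.fibDMap k X I f - ParSh.fibDMap k X I g := by
  have h : ParSh.resDMap I (f - g) = ParSh.resDMap I f - ParSh.resDMap I g := by
    show KoszTw.tensorMap (f - g) (𝟙 _) = KoszTw.tensorMap f (𝟙 _) - KoszTw.tensorMap g (𝟙 _)
    simp only [← KoszTw.tensorBi_map_app]
    exact (Euler.tF (ClSub.quotMod I)).map_sub
  refine LinearMap.ext fun x => ?_
  show Cohom.hhMap k (ParSh.resDMap I (f - g)) 0 x =
    Cohom.hhMap k (ParSh.resDMap I f) 0 x - Cohom.hhMap k (ParSh.resDMap I g) 0 x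
  rw [h, eq_sub_iff_add_eq, ← hhMap_add', sub_add_cancel]

end GrothLib.ParHilb
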