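import Groth.Agent.Lib.ParHilb.Saturate
import Groth.Agent.Lib.ParHilb.CurveParHom

/-!
# Kernels and images of maps of semistable parabolic sheaves of equal reduced polynomial
-/

set_option autoImplicit false
set_option linter.all false

universe u

open CategoryTheory CategoryTheory.Limits AlgebraicGeometry Polynomial

noncomputable section

namespace GrothLib.ParHilb

open GrothLib.Hilb20
open W4swparbununimod (rpoly parPoly)
open StabCat (alpha)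

/-- A combination with a leading weight. -/
def comb {n : ℕ} (w : ℝ) (c : Fin n → ℝ) (A : Fin (n + 1) → ℚ[X]) : ℝ[X] :=
  Polynomial.C w * rpoly (A 0) + ∑ j : Fin n, Polynomial.C (c j) * rpoly (A j.succ)

theorem parPoly_eq_comb {C : Type*} [Category C] {E : C} (𝓩 : ParSh.Str E) (A : Fin (𝓩.l + 2) → ℚ[X]) :
    parPoly 𝓩 A = comb (𝓩.wt 0) (fun j => 𝓩.wtX j.succ - 𝓩.wtX j.castSucc) A := by
  have h1 := Fin.sum_univ_succ fun i => Polynomial.C (𝓩.wtX i) * rpoly (A i)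
  have h2 := Fin.sum_univ_castSucc fun i => Polynomial.C (𝓩.wtX i) * rpoly (A i)
  rw [𝓩.wtX_last, map_one, one_mul] at h2
  rw [show 𝓩.wtX 0 = 𝓩.wt 0 from 𝓩.wtX_castSucc 0] at h1
  simp only [parPoly, comb, map_sub, sub_mul, mul_sub, Finset.sum_sub_distrib, 𝓩.wtX_castSucc] at h1 h2 ⊢
  linear_combination h1 - h2

theorem wtX_diff_pos {C : Type*} [Category C] {E : C} (𝓩 : ParSh.Str E) (j : Fin (𝓩.l + 1)) :
    0 < 𝓩.wtX j.succ - 𝓩.wtX j.castSucc := by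
  induction j using Fin.lastCases with
  | last => rw [𝓩.wtX_castSucc, Fin.succ_last, 𝓩.wtX_last]; linarith [𝓩.wt_lt_one]
  | cast i =>
    rw [Fin.succ_castSucc, 𝓩.wtX_castSucc, 𝓩.wtX_castSucc]
    linarith [𝓩.wt_strictMono (Fin.castSucc_lt_succ (i := i))]

theorem eq_of_eventually_eval_eq {p q : ℝ[X]} {M : ℕ} (h : ∀ m : ℕ, M ≤ m → p.eval (m : ℝ) = q.eval (m : ℝ)) :
    p = q := by
  refine Polynomial.eq_of_infinite_eval_eq p q
    (Set.Infinite.mono ?_ ((Set.Ici_infinite M).image Nat.cast_injective.injOn))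
  rintro _ ⟨m, hm, rfl⟩
  exact h m hm

theorem rat_eq_of_eventually_eval_eq {p q : ℚ[X]} {M : ℕ} (h : ∀ m : ℕ, M ≤ m → p.eval (m : ℚ) = q.eval (m : ℚ)) :
    p = q :=
  Polynomial.map_injective _ (Rat.castHom ℝ).injective
    (eq_of_eventually_eval_eq (M := M) fun m hm => by
      rw [show p.map (Rat.castHom ℝ) = rpoly p from rfl, show q.map (Rat.castHom ℝ) = rpoly q from rfl,
        eval_rpoly, eval_rpoly, h m hm])

theorem comb_le {n : ℕ} {w : ℝ} (hw : 0 ≤ w) {c : Fin n → ℝ} (hc : ∀ j, 0 ≤ c j) {A B : Fin (n + 1) → ℚ[X]}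
    {m : ℕ} (h : ∀ j, (A j).eval (m : ℚ) ≤ (B j).eval (m : ℚ)) :
    (comb w c A).eval (m : ℝ) ≤ (comb w c B).eval (m : ℝ) := by
  simp only [comb, eval_add, eval_finsetSum, eval_mul, eval_C, eval_rpoly]
  exact add_le_add (mul_le_mul_of_nonneg_left (by exact_mod_cast h 0) hw)
    (Finset.sum_le_sum fun j _ => mul_le_mul_of_nonneg_left (by exact_mod_cast h j.succ) (hc j))

theorem comb_inj {n : ℕ} {w : ℝ} (hw : 0 < w) {c : Fin n → ℝ} (hc : ∀ j, 0 < c j) {A B : Fin (n + 1) → ℚ[X]}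
    {M : ℕ} (h : ∀ m : ℕ, M ≤ m → ∀ j, (A j).eval (m : ℚ) ≤ (B j).eval (m : ℚ))
    (he : comb w c A = comb w c B) (j : Fin (n + 1)) : A j = B j := by
  refine rat_eq_of_eventually_eval_eq (M := M) fun m hm => le_antisymm (h m hm j) ?_
  by_contra hlt
  rw [not_le] at hlt
  have hlt' : (((A j).eval (m : ℚ) : ℚ) : ℝ) < (((B j).eval (m : ℚ) : ℚ) : ℝ) := by exact_mod_cast hlt
  have hall : ∀ i, (((A i).eval (m : ℚ) : ℚ) : ℝ) ≤ (((B i).eval (m : ℚ) : ℚ) : ℝ) := fun i => by exact_mod_cast h m hm i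
  have e := congrArg (fun p : ℝ[X] => p.eval (m : ℝ)) he
  simp only [comb, eval_add, eval_finsetSum, eval_mul, eval_C, eval_rpoly] at e
  refine (ne_of_lt ?_) e
  rcases Fin.eq_zero_or_eq_succ j with rfl | ⟨i, rfl⟩
  · exact add_lt_add_of_lt_of_le (mul_lt_mul_of_pos_left hlt' hw)
      (Finset.sum_le_sum fun i _ => mul_le_mul_of_nonneg_left (hall _) (hc i).le)
  · exact add_lt_add_of_le_of_lt (mul_le_mul_of_nonneg_left (hall _) hw.le)
      (Finset.sum_lt_sum (fun i _ => mul_le_mul_of_nonneg_left (hall _) (hc i).le)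
        ⟨i, Finset.mem_univ _, mul_lt_mul_of_pos_left hlt' (hc i)⟩)

variable {X : Scheme.{u}}

theorem isPure_of_mono {V F : X.Modules} {d : ℕ} (u : V ⟶ F) [Mono u] (h : ShStab.IsPure X F d) :
    ShStab.IsPure X V d := fun G g hg hG hG0 => by
  haveI := hg
  exact h G (g ≫ u) inferInstance hG hG0

theorem isPure_of_isZero {V : X.Modules} {d : ℕ} (h : IsZero V) : ShStab.IsPure X V d := fun G g hg _ hG0 => by
  haveI := hg
  exact absurd (IsZero.of_mono g h) hG0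

variable {k : Type u} [Field k] [X.Over (Spec (CommRingCat.of k))] [IsProper (X ↘ Spec (CommRingCat.of k))]
  {L : X.Modules}

theorem isIso_of_hilbPoly_eq (hL : CohB1.IsAmple L) {A B : X.Modules} (hA : Coh.IsCoh A) (hB : Coh.IsCoh B)
    (f : A ⟶ B) [Mono f] {p : ℚ[X]} (hpA : ShStab.IsHilbPoly k X L A p) (hpB : ShStab.IsHilbPoly k X L B p) :
    IsIso f := by
  obtain ⟨hC, -, pC, hpC, e⟩ := exists_quotient_poly hL hA hB f hpA hpB
  obtain ⟨n, hn⟩ := exists_dimLT (k := k) (CohB1.support (cokernel f))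
  have hz := isZero_of_isHilbPoly_zero hL hC hn ((left_eq_add.1 e) ▸ hpC)
  haveI : Epi f := Preadditive.epi_of_isZero_cokernel f hz
  exact isIso_of_mono_of_epi f

theorem subobject_eq_of_poly_eq (hL : CohB1.IsAmple L) {B : X.Modules} {S P : Subobject B}
    (hS : Coh.IsCoh (S : X.Modules)) (hP : Coh.IsCoh (P : X.Modules)) (m : (S : X.Modules) ⟶ (P : X.Modules))
    (hm : m ≫ P.arrow = S.arrow) {p : ℚ[X]} (h1 : ShStab.IsHilbPoly k X L (S : X.Modules) p)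
    (h2 : ShStab.IsHilbPoly k X L (P : X.Modules) p) : S = P := by
  haveI : Mono m := mono_of_mono_fac hm
  haveI := isIso_of_hilbPoly_eq hL hS hP m h1 h2
  exact Subobject.eq_of_comm (asIso m) hm

variable {I : X.IdealSheafData} {d : ℕ} {E F K V : X.Modules}

theorem parPoly_of_isZero (hL : CohB1.IsAmple L) (𝓩 : ParSh.Str K) (hK : IsZero K)
    {A : Fin (𝓩.l + 2) → ℚ[X]} (hA : ∀ j, ShStab.IsHilbPoly k X L (𝓩.pieceX j : X.Modules) (A j)) :
    parPoly 𝓩 A = 0 := by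
  have : ∀ j, A j = 0 := fun j =>
    isHilbPoly_unique (hA j) (isHilbPoly_of_isZero (IsZero.of_mono (𝓩.pieceX j).arrow hK))
  simp [parPoly, this]

/-- The semistability inequality, also for the zero submodule. -/
theorem le_of_ss (hL : CohB1.IsAmple L) (hE0 : Coh.IsCoh E) (𝓔 : ParSh.Str E) {P : ℚ[X]}
    {PX : Fin (𝓔.l + 2) → ℚ[X]}
    (hss : ∀ (W : X.Modules) (ι : W ⟶ E), Mono ι → Coh.IsCoh W → ¬ IsZero W → ShStab.IsPure X (cokernel ι) d →
        ∀ (Q : ℚ[X]) (QX : Fin (𝓔.l + 2) → ℚ[X]), ShStab.IsHilbPoly k X L W Q →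
          (∀ j, ShStab.IsHilbPoly k X L (((𝓔.induced ι).pieceX j : Subobject W) : X.Modules) (QX j)) →
          ∃ M : ℕ, ∀ m : ℕ, M ≤ m →
            (parPoly (𝓔.induced ι) QX).eval (m : ℝ) * (alpha d P : ℝ) ≤
              (parPoly 𝓔 PX).eval (m : ℝ) * (alpha d Q : ℝ))
    {W : X.Modules} (ι : W ⟶ E) [Mono ι] (hW : Coh.IsCoh W) (hp : ShStab.IsPure X (cokernel ι) d)
    {Q : ℚ[X]} (hQ : ShStab.IsHilbPoly k X L W Q) {QX : Fin (𝓔.l + 2) → ℚ[X]}
    (hQX : ∀ j, ShStab.IsHilbPoly k X L (((𝓔.induced ι).pieceX j : Subobject W) : X.Modules) (QX j)) :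
    ∃ M : ℕ, ∀ m : ℕ, M ≤ m →
      (parPoly (𝓔.induced ι) QX).eval (m : ℝ) * (alpha d P : ℝ) ≤
        (parPoly 𝓔 PX).eval (m : ℝ) * (alpha d Q : ℝ) := by
  by_cases hz : IsZero W
  · have e : parPoly (𝓔.induced ι) QX = 0 := parPoly_of_isZero hL (𝓔.induced ι) hz hQX
    refine ⟨0, fun m _ => ?_⟩
    rw [e, isHilbPoly_unique hQ (isHilbPoly_of_isZero hz)]
    simp [alpha]
  · exact hss W ι inferInstance hW hz hp Q QX hQ hQX

/-- Kernel and image of a parabolic map, equal weights. -/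
theorem kernel_image_eq (hL : CohB1.IsAmple L) (hE : Coh.IsCoh E) (hF : Coh.IsCoh F)
    (hE0 : ¬ IsZero E) (hF0 : ¬ IsZero F) (hEp : ShStab.IsPure X E d) (hFp : ShStab.IsPure X F d)
    (𝓔 : ParSh.Str E) (pF : Fin (𝓔.l + 1) → Subobject F) (bF : Subobject F) (a1 : pF 0 = ⊤) (a2 : Antitone pF)
    (a3 : ∀ j, bF ≤ pF j) (a4 : StrictMono 𝓔.wt) (a5 : 0 ≤ 𝓔.wt 0) (a6 : 𝓔.wt (Fin.last 𝓔.l) < 1)
    (hcE : ∀ j, Coh.IsCoh ((𝓔.pieceX j : Subobject E) : X.Modules))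
    (hcF : ∀ j, Coh.IsCoh (((⟨𝓔.l, pF, bF, 𝓔.wt, a1, a2, a3, a4, a5, a6⟩ : ParSh.Str F).pieceX j :
      Subobject F) : X.Modules))
    (hw0 : 0 < 𝓔.wt 0) (P R : ℚ[X]) (hP : ShStab.IsHilbPoly k X L E P) (hR : ShStab.IsHilbPoly k X L F R)
    (PX : Fin (𝓔.l + 2) → ℚ[X]) (hPX : ∀ j, ShStab.IsHilbPoly k X L ((𝓔.pieceX j : Subobject E) : X.Modules) (PX j))
    (RX : Fin (𝓔.l + 2) → ℚ[X])
    (hRX : ∀ j, ShStab.IsHilbPoly k X L (((⟨𝓔.l, pF, bF, 𝓔.wt, a1, a2, a3, a4, a5, a6⟩ : ParSh.Str F).pieceX j :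
      Subobject F) : X.Modules) (RX j))
    (hssE : ∀ (W : X.Modules) (ι : W ⟶ E), Mono ι → Coh.IsCoh W → ¬ IsZero W → ShStab.IsPure X (cokernel ι) d →
        ∀ (Q : ℚ[X]) (QX : Fin (𝓔.l + 2) → ℚ[X]), ShStab.IsHilbPoly k X L W Q →
          (∀ j, ShStab.IsHilbPoly k X L (((𝓔.induced ι).pieceX j : Subobject W) : X.Modules) (QX j)) →
          ∃ M : ℕ, ∀ m : ℕ, M ≤ m →
            (parPoly (𝓔.induced ι) QX).eval (m : ℝ) * (alpha d P : ℝ) ≤
              (parPoly 𝓔 PX).eval (m : ℝ) * (alpha d Q : ℝ))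
    (hssF : ∀ (W : X.Modules) (ι : W ⟶ F), Mono ι → Coh.IsCoh W → ¬ IsZero W → ShStab.IsPure X (cokernel ι) d →
        ∀ (Q : ℚ[X]) (QX : Fin (𝓔.l + 2) → ℚ[X]), ShStab.IsHilbPoly k X L W Q →
          (∀ j, ShStab.IsHilbPoly k X L
            ((((⟨𝓔.l, pF, bF, 𝓔.wt, a1, a2, a3, a4, a5, a6⟩ : ParSh.Str F).induced ι).pieceX j :
              Subobject W) : X.Modules) (QX j)) →
          ∃ M : ℕ, ∀ m : ℕ, M ≤ m →
            (parPoly ((⟨𝓔.l, pF, bF, 𝓔.wt, a1, a2, a3, a4, a5, a6⟩ : ParSh.Str F).induced ι) QX).eval (m : ℝ) *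
                (alpha d R : ℝ) ≤
              (parPoly (⟨𝓔.l, pF, bF, 𝓔.wt, a1, a2, a3, a4, a5, a6⟩ : ParSh.Str F) RX).eval (m : ℝ) *
                (alpha d Q : ℝ))
    (hred : parPoly 𝓔 PX * Polynomial.C (alpha d R : ℝ) =
      parPoly (⟨𝓔.l, pF, bF, 𝓔.wt, a1, a2, a3, a4, a5, a6⟩ : ParSh.Str F) RX * Polynomial.C (alpha d P : ℝ))
    (f : E ⟶ F) (hf : ParSh.IsParHom 𝓔 (⟨𝓔.l, pF, bF, 𝓔.wt, a1, a2, a3, a4, a5, a6⟩ : ParSh.Str F) f)
    (j : K ⟶ E) [Mono j] (w : j ≫ f = 0) (hex : (ShortComplex.mk j f w).Exact)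
    (q : E ⟶ V) [Epi q] (u : V ⟶ F) [Mono u] (hqu : q ≫ u = f) :
    (∀ (QK : ℚ[X]) (QKX : Fin (𝓔.l + 2) → ℚ[X]), ShStab.IsHilbPoly k X L K QK →
        (∀ j', ShStab.IsHilbPoly k X L (((𝓔.induced j).pieceX j' : Subobject K) : X.Modules) (QKX j')) →
        parPoly (𝓔.induced j) QKX * Polynomial.C (alpha d P : ℝ) =
          parPoly 𝓔 PX * Polynomial.C (alpha d QK : ℝ)) ∧
    ShStab.IsPure X (cokernel u) d ∧
    (∀ a : ℝ, 0 ≤ a → a ≤ 1 → (𝓔.coinduced q).at a =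
      ((⟨𝓔.l, pF, bF, 𝓔.wt, a1, a2, a3, a4, a5, a6⟩ : ParSh.Str F).induced u).at a) := by
  haveI := Euler.isNoetherian_of_proper (X := X) k
  let 𝓕 : ParSh.Str F := ⟨𝓔.l, pF, bF, 𝓔.wt, a1, a2, a3, a4, a5, a6⟩
  subst hqu
  -- coherence of the kernel and the image
  haveI : Mono (ShortComplex.mk j (q ≫ u) w).f := inferInstanceAs (Mono j)
  have hjk := hex.fIsKernel
  have hKc : Coh.IsCoh K := QCoh.isCoh_of_iso
    (IsLimit.conePointUniqueUpToIso (kernelIsKernel (q ≫ u)) hjk) (QCoh.isCoh_kernel _ hE hF)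
  have wq : j ≫ q = 0 := by rw [← cancel_mono u, Category.assoc, Limits.zero_comp]; exact w
  have hS : (ShortComplex.mk j q wq).ShortExact :=
    ShortComplex.ShortExact.mk' (ShortComplex.exact_of_f_is_kernel _ (KernelFork.IsLimit.ofι' _ _ fun {T} a ha =>
      KernelFork.IsLimit.lift' hjk a (show a ≫ q ≫ u = 0 by rw [← Category.assoc]; exact ha.symm ▸ Limits.zero_comp)))
      inferInstance inferInstance
  let eV : cokernel j ≅ V := (cokernelIsCokernel j).coconePointUniqueUpToIso hS.exact.gIsCokernel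
  have hVc : Coh.IsCoh V := QCoh.isCoh_of_iso eV (QCoh.isCoh_cokernel j hKc hE)
  have hVp : ShStab.IsPure X V d := isPure_of_mono u hFp
  -- polynomials
  have hci := isCoh_induced k 𝓔 j hKc hE hcE
  have hcc : ∀ i : Fin (𝓔.l + 2), Coh.IsCoh (((𝓔.coinduced q).pieceX i : Subobject V) : X.Modules) := fun i => by
    rw [pieceX_coinduced]
    exact QCoh.isCoh_of_iso (imageSubobjectIso _ ≪≫ (Abelian.imageIsoImage _).symm).symm
      (isCoh_image (k := k) _ (hcE i) hVc)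
  obtain ⟨KX, _, hKX, _⟩ := exists_hilbPolys (k := k) hL hKc (𝓔.induced j) hci
  obtain ⟨CX, _, hCX, _⟩ := exists_hilbPolys (k := k) hL hVc (𝓔.coinduced q) hcc
  obtain ⟨IX, _, hIX, _⟩ := exists_hilbPolys (k := k) hL hVc (𝓕.induced u) (isCoh_induced k 𝓕 u hVc hF hcF)
  have hadd : ∀ i : Fin (𝓔.l + 2), PX i = KX i + CX i := fun i => by
    obtain ⟨α, β, z, hT⟩ := exists_shortExact_pullback_image hS (𝓔.pieceX i)
    let e₁ := Subobject.isoOfEq _ _ (pieceX_induced 𝓔 j i)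
    let e₂ := Subobject.isoOfEq _ _ (pieceX_coinduced 𝓔 q i)
    exact eq_add_of_shortExact hL.1 hT (QCoh.isCoh_of_iso e₁ (hci i)) (hcE i) (QCoh.isCoh_of_iso e₂ (hcc i))
      (isHilbPoly_congr e₁ (hKX i)) (hPX i) (isHilbPoly_congr e₂ (hCX i))
  have hPV : parPoly 𝓔 PX = parPoly (𝓔.induced j) KX + parPoly (𝓔.coinduced q) CX := by
    rw [parPoly_eq_comb, parPoly_eq_comb (𝓔.induced j), parPoly_eq_comb (𝓔.coinduced q)]
    show comb (𝓔.wt 0) (fun i : Fin (𝓔.l + 1) => 𝓔.wtX i.succ - 𝓔.wtX i.castSucc) PX =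
      comb (𝓔.wt 0) (fun i : Fin (𝓔.l + 1) => 𝓔.wtX i.succ - 𝓔.wtX i.castSucc) KX +
        comb (𝓔.wt 0) (fun i : Fin (𝓔.l + 1) => 𝓔.wtX i.succ - 𝓔.wtX i.castSucc) CX
    simp only [comb, hadd, W4swparbununimod.rpoly, Polynomial.map_add, mul_add, Finset.sum_add_distrib]
    ring
  have hQK := isHilbPoly_hp k hL hKc
  have hQV := isHilbPoly_hp k hL hVc
  have hP' : P = hp k L K + hp k L V := eq_add_of_shortExact hL.1 hS hKc hE hVc hQK hP hQV
  -- saturation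
  obtain ⟨S, l, hl, hSc, hαS, hSp⟩ := exists_saturated k hL hF hFp u hVc
  haveI : Mono l := mono_of_mono_fac hl
  obtain ⟨SX, _, hSX, _⟩ := exists_hilbPolys (k := k) hL hSc (𝓕.induced S.arrow) (isCoh_induced k 𝓕 S.arrow hSc hF hcF)
  obtain ⟨MK, hMK⟩ := le_of_ss hL hE 𝓔 hssE j hKc (isPure_of_iso eV.symm hVp) hQK hKX
  obtain ⟨MS, hMS⟩ := le_of_ss hL hF 𝓕 hssF S.arrow hSc hSp (isHilbPoly_hp k hL hSc) hSX
  rw [hαS] at hMS
  -- maps between pieces
  have hatE : ∀ i : Fin (𝓔.l + 2), 𝓔.at (𝓔.wtX i) = 𝓔.pieceX i := fun i => by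
    induction i using Fin.lastCases with
    | last => rw [𝓔.wtX_last, 𝓔.pieceX_last]; exact 𝓔.at_eq_bot fun i => (wt_mem 𝓔 i).2.lt_of_ne fun h =>
        absurd (h ▸ 𝓔.wt_strictMono.monotone (Fin.le_last i)) (not_le.2 a6)
    | cast i =>
      rw [𝓔.wtX_castSucc, 𝓔.pieceX_castSucc]
      exact 𝓔.at_eq_piece i le_rfl fun i' h => 𝓔.wt_strictMono h
  have hwX : ∀ i : Fin (𝓔.l + 2), 0 ≤ 𝓔.wtX i ∧ 𝓔.wtX i ≤ 1 := fun i => by
    induction i using Fin.lastCases with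
    | last => rw [𝓔.wtX_last]; exact ⟨zero_le_one, le_rfl⟩
    | cast i => rw [𝓔.wtX_castSucc]; exact wt_mem 𝓔 i
  have hatF : ∀ i : Fin (𝓔.l + 2), 𝓕.at (𝓔.wtX i) = 𝓕.pieceX i := fun (i : Fin (𝓕.l + 2)) => by
    induction i using Fin.lastCases with
    | last =>
      refine (congrArg 𝓕.at (show 𝓔.wtX (Fin.last (𝓔.l + 1)) = 1 from 𝓔.wtX_last)).trans ?_
      rw [𝓕.pieceX_last]; exact 𝓕.at_eq_bot fun i => (wt_mem 𝓕 i).2.lt_of_ne fun h =>
        absurd (h ▸ 𝓕.wt_strictMono.monotone (Fin.le_last i)) (not_le.2 a6)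
    | cast i =>
      refine (congrArg 𝓕.at (show 𝓔.wtX (Fin.castSucc i) = 𝓕.wt i from 𝓔.wtX_castSucc i)).trans ?_
      rw [𝓕.pieceX_castSucc]
      exact 𝓕.at_eq_piece i le_rfl fun i' h => 𝓕.wt_strictMono h
  have hCI : ∀ i : Fin (𝓔.l + 2), ∃ m : (((𝓔.coinduced q).pieceX i : Subobject V) : X.Modules) ⟶
      (((𝓕.induced u).pieceX i : Subobject V) : X.Modules),
      m ≫ ((𝓕.induced u).pieceX i).arrow = ((𝓔.coinduced q).pieceX i).arrow := fun i => by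
    have h1 := hf (𝓔.wtX i) (hwX i).1 (hwX i).2
    rw [hatE i] at h1
    erw [hatF i] at h1
    rw [pieceX_coinduced]
    erw [pieceX_induced 𝓕 u i]
    let S := imageSubobject ((𝓔.pieceX i).arrow ≫ q)
    have hfac : (S.arrow ≫ u) ≫ cokernel.π (𝓕.pieceX i).arrow = 0 := by
      rw [← cancel_epi (factorThruImageSubobject ((𝓔.pieceX i).arrow ≫ q)), Limits.comp_zero, ← Category.assoc,
        show factorThruImageSubobject ((𝓔.pieceX i).arrow ≫ q) ≫ S.arrow ≫ u = (𝓔.pieceX i).arrow ≫ q ≫ u by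
          simp only [S, imageSubobject_arrow_comp_assoc, Category.assoc],
        ← Subobject.factorThru_arrow _ _ h1, Category.assoc, cokernel.condition, Limits.comp_zero]
    have hp := Subobject.isPullback u (𝓕.pieceX i)
    exact ⟨hp.lift (Abelian.monoLift _ _ hfac) S.arrow (Abelian.monoLift_comp _ _ _), hp.lift_snd _ _ _⟩
  choose mCI hmCI using hCI
  have hIS : ∀ i : Fin (𝓔.l + 2), ∃ m : (((𝓕.induced u).pieceX i : Subobject V) : X.Modules) ⟶
      (((𝓕.induced S.arrow).pieceX i : Subobject (S : X.Modules)) : X.Modules), Mono m ∧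
      m ≫ ((𝓕.induced S.arrow).pieceX i).arrow = ((𝓕.induced u).pieceX i).arrow ≫ l := fun i => by
    erw [pieceX_induced 𝓕 u i, pieceX_induced 𝓕 S.arrow i]
    have hp := Subobject.isPullback u (𝓕.pieceX i)
    have hp' := Subobject.isPullback S.arrow (𝓕.pieceX i)
    refine ⟨hp'.lift (Subobject.pullbackπ u (𝓕.pieceX i)) (((Subobject.pullback u).obj (𝓕.pieceX i)).arrow ≫ l)
      (by rw [Category.assoc, hl]; exact hp.w), ?_, hp'.lift_snd _ _ _⟩
    haveI : Mono (Subobject.pullbackπ u (𝓕.pieceX i)) := hp.mono_fst_of_mono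
    exact mono_of_mono_fac (hp'.lift_fst _ _ _)
  choose mIS hmISmono hmIS using hIS
  have hmonoCI : ∀ i, Mono (mCI i) := fun i => mono_of_mono_fac (hmCI i)
  obtain ⟨M₁, hM₁⟩ : ∃ M : ℕ, ∀ m : ℕ, M ≤ m → ∀ i, (CX i).eval (m : ℚ) ≤ (IX i).eval (m : ℚ) := by
    have h : ∀ i, ∃ M : ℕ, ∀ m : ℕ, M ≤ m → (CX i).eval (m : ℚ) ≤ (IX i).eval (m : ℚ) := fun i => by
      haveI := hmonoCI i
      exact eventually_eval_le_of_mono hL (hcc i) (isCoh_induced k 𝓕 u hVc hF hcF i) (mCI i) (hCX i) (hIX i)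
    choose M hM using h
    exact ⟨Finset.univ.sup M, fun m hm i => hM i m (le_trans (Finset.le_sup (Finset.mem_univ i)) hm)⟩
  obtain ⟨M₂, hM₂⟩ : ∃ M : ℕ, ∀ m : ℕ, M ≤ m → ∀ i, (IX i).eval (m : ℚ) ≤ (SX i).eval (m : ℚ) := by
    have h : ∀ i, ∃ M : ℕ, ∀ m : ℕ, M ≤ m → (IX i).eval (m : ℚ) ≤ (SX i).eval (m : ℚ) := fun i => by
      haveI := hmISmono i
      exact eventually_eval_le_of_mono hL (isCoh_induced k 𝓕 u hVc hF hcF i)
        (isCoh_induced k 𝓕 S.arrow hSc hF hcF i) (mIS i) (hIX i) (hSX i)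
    choose M hM using h
    exact ⟨Finset.univ.sup M, fun m hm i => hM i m (le_trans (Finset.le_sup (Finset.mem_univ i)) hm)⟩
  -- the three combinations
  let c : Fin (𝓔.l + 1) → ℝ := fun i => 𝓔.wtX i.succ - 𝓔.wtX i.castSucc
  have eC : parPoly (𝓔.coinduced q) CX = comb (𝓔.wt 0) c CX := parPoly_eq_comb _ _
  have eI : parPoly (𝓕.induced u) IX = comb (𝓔.wt 0) c IX := parPoly_eq_comb _ _
  have eS : parPoly (𝓕.induced S.arrow) SX = comb (𝓔.wt 0) c SX := parPoly_eq_comb _ _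
  have hc : ∀ i, 0 < c i := wtX_diff_pos 𝓔
  have hαE : (0 : ℝ) < (alpha d P : ℝ) := by exact_mod_cast alpha_pos_self (k := k) hL hE hE0 hEp hP
  have hαF : (0 : ℝ) < (alpha d R : ℝ) := by exact_mod_cast alpha_pos_self (k := k) hL hF hF0 hFp hR
  have hαP : (alpha d P : ℝ) = (alpha d (hp k L K) : ℝ) + (alpha d (hp k L V) : ℝ) := by
    rw [hP', alpha_add]; push_cast; ring
  let M := max (max MK MS) (max M₁ M₂)
  have key : ∀ m : ℕ, M ≤ m →
      (parPoly (𝓔.induced j) KX).eval (m : ℝ) * (alpha d P : ℝ) =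
        (parPoly 𝓔 PX).eval (m : ℝ) * (alpha d (hp k L K) : ℝ) ∧
      (comb (𝓔.wt 0) c CX).eval (m : ℝ) = (comb (𝓔.wt 0) c IX).eval (m : ℝ) ∧
      (comb (𝓔.wt 0) c IX).eval (m : ℝ) = (comb (𝓔.wt 0) c SX).eval (m : ℝ) := by
    intro m hm
    have h1 := hMK m (by omega)
    have h4 := hMS m (by omega)
    have h2 := comb_le a5 (fun i => (hc i).le) (hM₁ m (by omega))
    have h3 := comb_le a5 (fun i => (hc i).le) (hM₂ m (by omega))
    have e5 := congrArg (fun p : ℝ[X] => p.eval (m : ℝ)) hred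
    have e6 := congrArg (fun p : ℝ[X] => p.eval (m : ℝ)) hPV
    simp only [eval_mul, eval_C, eval_add] at e5 e6
    rw [eC] at e6
    rw [show parPoly (𝓕.induced S.arrow) SX = comb (𝓔.wt 0) c SX from eS] at h4
    set pE := (parPoly 𝓔 PX).eval (m : ℝ)
    set pK := (parPoly (𝓔.induced j) KX).eval (m : ℝ)
    set x := (comb (𝓔.wt 0) c CX).eval (m : ℝ)
    set y := (comb (𝓔.wt 0) c IX).eval (m : ℝ)
    set z := (comb (𝓔.wt 0) c SX).eval (m : ℝ)
    set aP := (alpha d P : ℝ)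
    set aR := (alpha d R : ℝ)
    set aK := (alpha d (hp k L K) : ℝ)
    set aV := (alpha d (hp k L V) : ℝ)
    have g2 := mul_le_mul_of_nonneg_left h2 (mul_nonneg hαE.le hαF.le)
    have g3 := mul_le_mul_of_nonneg_left h3 (mul_nonneg hαE.le hαF.le)
    have g4 := mul_le_mul_of_nonneg_left h4 hαE.le
    have g1 := mul_le_mul_of_nonneg_left h1 hαF.le
    have k0 : pE * aV * aR ≤ x * aP * aR := by
      rw [show x = pE - pK by linarith, show aV = aP - aK by linarith]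
      linarith [g1]
    have k1 : aP * (z * aR) ≤ pE * aV * aR := by
      refine g4.trans (le_of_eq ?_)
      linear_combination (-aV) * e5
    have hpos : 0 < aP * aR := mul_pos hαE hαF
    refine ⟨?_, ?_, ?_⟩
    · have : aR * (pK * aP) = aR * (pE * aK) := by
        rw [show pK = pE - x by linarith, show aK = aP - aV by linarith]
        linarith
      exact mul_left_cancel₀ hαF.ne' this
    · exact mul_left_cancel₀ hpos.ne' (by linarith)
    · exact mul_left_cancel₀ hpos.ne' (by linarith)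
  have hCI' : comb (𝓔.wt 0) c CX = comb (𝓔.wt 0) c IX := eq_of_eventually_eval_eq fun m hm => (key m hm).2.1
  have hIS' : comb (𝓔.wt 0) c IX = comb (𝓔.wt 0) c SX := eq_of_eventually_eval_eq fun m hm => (key m hm).2.2
  have hceq := comb_inj hw0 hc hM₁ hCI'
  have hseq := comb_inj hw0 hc hM₂ hIS'
  refine ⟨fun QK QKX hQK' hQKX => ?_, ?_, fun a _ _ => ?_⟩
  · have e1 : QK = hp k L K := isHilbPoly_unique hQK' hQK
    have e2 : QKX = KX := funext fun i => isHilbPoly_unique (hQKX i) (hKX i)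
    subst e1 e2
    refine eq_of_eventually_eval_eq (M := M) fun m hm => ?_
    rw [eval_mul, eval_mul, eval_C, eval_C]
    exact (key m hm).1
  · -- the saturation is the image
    have hI0 : (𝓕.induced u).pieceX 0 = ⊤ := pieceX_zero (𝓕.induced u)
    have hS0 : (𝓕.induced S.arrow).pieceX 0 = ⊤ := pieceX_zero (𝓕.induced S.arrow)
    haveI := hmISmono 0
    haveI hm0 : IsIso (mIS 0) := isIso_of_hilbPoly_eq hL (isCoh_induced k 𝓕 u hVc hF hcF _)
      (isCoh_induced k 𝓕 S.arrow hSc hF hcF _) (mIS 0) (hIX 0) (hseq 0 ▸ hSX 0)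
    haveI : IsIso ((𝓕.induced u).pieceX 0).arrow := (Subobject.isIso_arrow_iff_eq_top _).2 hI0
    haveI hA0 : IsIso ((𝓕.induced S.arrow).pieceX 0).arrow := (Subobject.isIso_arrow_iff_eq_top _).2 hS0
    haveI h0iso : IsIso (mIS 0 ≫ ((𝓕.induced S.arrow).pieceX 0).arrow) := @IsIso.comp_isIso _ _ _ _ _ _ _ hm0 hA0
    haveI : IsIso (((𝓕.induced u).pieceX 0).arrow ≫ l) := (hmIS 0) ▸ h0iso
    haveI : IsIso l := IsIso.of_isIso_comp_left ((𝓕.induced u).pieceX 0).arrow l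
    exact isPure_of_iso ((cokernelEpiComp l S.arrow).symm ≪≫ cokernelIsoOfEq hl) hSp
  · have hpc : ∀ i : Fin (𝓔.l + 2), (𝓔.coinduced q).pieceX i = (𝓕.induced u).pieceX i := fun i =>
      subobject_eq_of_poly_eq hL (hcc i) (isCoh_induced k 𝓕 u hVc hF hcF i) (mCI i) (hmCI i) (hCX i)
        (hceq i ▸ hIX i)
    rcases at_cases 𝓔 a with ⟨j₀, h0, hlt⟩ | h
    · refine ((𝓔.coinduced q).at_eq_piece j₀ h0 hlt).trans (Eq.trans ?_ ((𝓕.induced u).at_eq_piece j₀ h0 hlt).symm)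
      have e := hpc j₀.castSucc
      erw [(𝓔.coinduced q).pieceX_castSucc j₀, (𝓕.induced u).pieceX_castSucc j₀] at e
      exact e
    · refine ((𝓔.coinduced q).at_eq_bot h).trans (Eq.trans ?_ ((𝓕.induced u).at_eq_bot h).symm)
      have e := hpc (Fin.last _)
      erw [(𝓔.coinduced q).pieceX_last, (𝓕.induced u).pieceX_last] at e
      exact e

end GrothLib.ParHilb
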