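import Groth.Agent.Lib.ParHilb.Sub
import Groth.Agent.Lib.Hilb20.Saturation

/-!
# Modified parabolic polynomials against semistable quotients; saturation
-/

set_option autoImplicit false
set_option linter.all false

universe u

open CategoryTheory CategoryTheory.Limits AlgebraicGeometry TopologicalSpace Polynomial

noncomputable section

namespace GrothLib.ParHilb

open GrothLib.Snapper (DimLT)
open GrothLib.Hilb20
open W4swparbununimod (rpoly parPoly parPolyOne)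
open StabCat (alpha)

variable {X : Scheme.{u}} {k : Type u} [Field k] [X.Over (Spec (CommRingCat.of k))]
  [IsProper (X ↘ Spec (CommRingCat.of k))] {L E W : X.Modules}

omit [IsProper (X ↘ Spec (CommRingCat.of k))] in
theorem isSemistable_of_isStable {d : ℕ} (h : ShStab.IsStable k X L E d) : ShStab.IsSemistable k X L E d :=
  ⟨h.1, h.2.1, h.2.2.1, fun F ι hι hF h0 hi p q hp hq => redLE_of_redLT (h.2.2.2 F ι hι hF h0 hi p q hp hq)⟩

theorem eval_rpoly (p : ℚ[X]) (m : ℕ) : (rpoly p).eval (m : ℝ) = ((p.eval (m : ℚ) : ℚ) : ℝ) := by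
  rw [show (m : ℝ) = Rat.castHom ℝ (m : ℚ) by simp, Polynomial.eval_map, Polynomial.eval₂_hom]
  rfl

theorem wtX_mono (𝓔 : ParSh.Str E) (j : Fin (𝓔.l + 1)) : 0 ≤ 𝓔.wtX j.succ - 𝓔.wtX j.castSucc := by
  induction j using Fin.lastCases with
  | last => rw [𝓔.wtX_castSucc, Fin.succ_last, 𝓔.wtX_last]; linarith [𝓔.wt_lt_one]
  | cast i =>
    rw [Fin.succ_castSucc, 𝓔.wtX_castSucc, 𝓔.wtX_castSucc]
    linarith [𝓔.wt_strictMono.monotone (Fin.castSucc_lt_succ (i := i)).le]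

theorem sum_wtX_diff (𝓔 : ParSh.Str E) :
    ∑ j : Fin (𝓔.l + 1), (𝓔.wtX j.succ - 𝓔.wtX j.castSucc) = 1 - 𝓔.wt 0 := by
  have h1 := Fin.sum_univ_succ fun i => 𝓔.wtX i
  have h2 := Fin.sum_univ_castSucc fun i => 𝓔.wtX i
  rw [𝓔.wtX_last] at h2
  rw [show 𝓔.wtX 0 = 𝓔.wt 0 from 𝓔.wtX_castSucc 0] at h1
  rw [Finset.sum_sub_distrib]
  linarith

/-- A submodule of a semistable module of dimension `e` stays below its share of the polynomial. -/
theorem eventually_le_of_semistable (hL : CohB1.IsAmple L) {T G : X.Modules} {e : ℕ}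
    (hs : ShStab.IsSemistable k X L T e) (κ : G ⟶ T) [Mono κ] (hG : Coh.IsCoh G) {pG pT : ℚ[X]}
    (hpG : ShStab.IsHilbPoly k X L G pG) (hpT : ShStab.IsHilbPoly k X L T pT) :
    ∃ M : ℕ, ∀ m : ℕ, M ≤ m → pG.eval (m : ℚ) ≤ alpha e pG / alpha e pT * pT.eval (m : ℚ) := by
  have hpos := alpha_pos_self (k := k) hL hs.1 hs.2.1 hs.2.2.1 hpT
  by_cases hz : IsZero G
  · rw [isHilbPoly_unique hpG (isHilbPoly_of_isZero hz)]
    exact ⟨0, fun m _ => by simp [alpha]⟩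
  by_cases hi : IsIso κ
  · haveI := hi
    rw [isHilbPoly_unique hpG (isHilbPoly_congr (asIso κ).symm hpT)]
    exact ⟨0, fun m _ => by rw [div_self hpos.ne', one_mul]⟩
  obtain ⟨M, hM⟩ := hs.2.2.2 G κ inferInstance hG hz hi pG pT hpG hpT
  refine ⟨M, fun m hm => ?_⟩
  have h := hM m hm
  simp only [eval_smul, smul_eq_mul] at h
  rw [div_mul_eq_mul_div, le_div_iff₀ hpos]
  linarith

/-- The first modified polynomial is below the parabolic one when the quotients are semistable. -/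
theorem eventually_parPolyOne_le (hL : CohB1.IsAmple L) (hE : Coh.IsCoh E) (hW : Coh.IsCoh W)
    (𝓔 : ParSh.Str E) (hcoh : ∀ j, Coh.IsCoh ((𝓔.pieceX j : Subobject E) : X.Modules)) (ι : W ⟶ E) {d : ℕ}
    {H : Fin (𝓔.l + 2) → ℚ[X]} (hH : ∀ j, ShStab.IsHilbPoly k X L (cokernel (𝓔.pieceX j).arrow) (H j))
    (hq : ∀ j : Fin (𝓔.l + 1), ShStab.IsSemistable k X L (cokernel (𝓔.pieceX j.succ).arrow) (d - 1))
    {Q : ℚ[X]} (hQ : ShStab.IsHilbPoly k X L W Q) {QX : Fin (𝓔.l + 2) → ℚ[X]}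
    (hQX : ∀ j, ShStab.IsHilbPoly k X L (((𝓔.induced ι).pieceX j : Subobject W) : X.Modules) (QX j))
    {QH : Fin (𝓔.l + 2) → ℚ[X]}
    (hQH : ∀ j, ShStab.IsHilbPoly k X L (cokernel ((𝓔.induced ι).pieceX j).arrow) (QH j)) :
    ∃ M : ℕ, ∀ m : ℕ, M ≤ m →
      (parPolyOne 𝓔 d Q QH H).eval (m : ℝ) ≤ (parPoly (𝓔.induced ι) QX).eval (m : ℝ) := by
  have hcW := isCoh_induced k 𝓔 ι hW hE hcoh
  have hj : ∀ j : Fin (𝓔.l + 1), ∃ M : ℕ, ∀ m : ℕ, M ≤ m →
      (QH j.succ).eval (m : ℚ) ≤ alpha (d - 1) (QH j.succ) / alpha (d - 1) (H j.succ) * (H j.succ).eval (m : ℚ) := by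
    intro j
    let e : cokernel ((𝓔.induced ι).pieceX j.succ).arrow ≅ cokernel ((Subobject.pullback ι).obj (𝓔.pieceX j.succ)).arrow :=
      eqToIso (congrArg (fun P : Subobject W => cokernel P.arrow) (pieceX_induced 𝓔 ι j.succ))
    exact eventually_le_of_semistable hL (hq j)
      ((e ≪≫ cokernelPullbackIso ι _).hom ≫ Abelian.factorThruCoimage _)
      (isCoh_cokernel_arrow k hW (hcW _)) (hQH _) (hH _)
  choose M hM using hj
  refine ⟨Finset.univ.sup M, fun m hm => ?_⟩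
  rw [parPoly_eq hL hW (𝓔.induced ι) hcW hQ hQX hQH]
  simp only [parPolyOne, eval_sub, eval_finsetSum, eval_mul, eval_C, eval_rpoly]
  refine sub_le_sub_left (Finset.sum_le_sum fun (j : Fin (𝓔.l + 1)) _ => ?_) _
  rw [mul_assoc]
  refine mul_le_mul_of_nonneg_left ?_ (wtX_mono 𝓔 j)
  exact_mod_cast hM j m (le_trans (Finset.le_sup (Finset.mem_univ j)) hm)

variable (k) in
include k in
/-- Every submodule sits in a saturated one of the same multiplicity. -/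
theorem exists_saturated (hL : CohB1.IsAmple L) (hE : Coh.IsCoh E) {d : ℕ} (hpure : ShStab.IsPure X E d)
    (ι : W ⟶ E) [Mono ι] (hW : Coh.IsCoh W) :
    ∃ (S : Subobject E) (l : W ⟶ (S : X.Modules)), l ≫ S.arrow = ι ∧ Coh.IsCoh (S : X.Modules) ∧
      alpha d (Hilb20.hp k L (S : X.Modules)) = alpha d (Hilb20.hp k L W) ∧ ShStab.IsPure X (cokernel S.arrow) d := by
  haveI := Euler.isNoetherian_of_proper (X := X) k
  letI := cohSubLattice hE
  haveI : WellFoundedGT (CohSub E) := isNoetherian_cohSub hE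
  have hd := isPure_self_dimLT hE hpure
  have hc : Coh.IsCoh ((Subobject.mk ι : Subobject E) : X.Modules) :=
    QCoh.isCoh_of_iso (Subobject.underlyingIso ι).symm hW
  obtain ⟨S, hcS, -, hR, hsat⟩ := Slope20.SlopeData.exists_saturation (gData k hL hE hd) (c := ⟨Subobject.mk ι, hc⟩)
    (b := topC hE) (show (⟨Subobject.mk ι, hc⟩ : CohSub E).1 ≤ (topC hE).1 from le_top)
  refine ⟨S.1, Subobject.ofMkLE ι S.1 hcS, Subobject.ofMkLE_arrow _, S.2, ?_, ?_⟩
  · have h := congrArg (fun z : ℤ => (z : ℚ)) hR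
    simp only [cast_R] at h
    rw [hp_of_iso k hL (Subobject.underlyingIso ι) hc]
    exact h
  · rcases hsat with rfl | h
    · intro F j hj hF h0
      haveI := hj
      haveI : IsIso ((topC hE).1).arrow := inferInstanceAs (IsIso (⊤ : Subobject E).arrow)
      exact absurd (IsZero.of_mono j (isZero_cokernel_of_epi _)) h0
    · exact isPure_of_iso (quotTop S.1) ((pure_iff k hL hE hd S (topC hE) le_top).1 h)

theorem eventually_eval_le_of_mono (hL : CohB1.IsAmple L) {A B : X.Modules} (hA : Coh.IsCoh A) (hB : Coh.IsCoh B)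
    (f : A ⟶ B) [Mono f] {pA pB : ℚ[X]} (hpA : ShStab.IsHilbPoly k X L A pA) (hpB : ShStab.IsHilbPoly k X L B pB) :
    ∃ M : ℕ, ∀ m : ℕ, M ≤ m → pA.eval (m : ℚ) ≤ pB.eval (m : ℚ) := by
  obtain ⟨hC, -, pC, hpC, e⟩ := exists_quotient_poly hL hA hB f hpA hpB
  by_cases hz : IsZero (cokernel f)
  · rw [e, isHilbPoly_unique hpC (isHilbPoly_of_isZero hz), add_zero]
    exact ⟨0, fun _ _ => le_rfl⟩
  obtain ⟨n, hn⟩ := exists_dimLT (k := k) (CohB1.support (cokernel f))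
  obtain ⟨M, hM⟩ := eval_pos hL hC hz hn hpC
  exact ⟨M, fun m hm => by rw [e, eval_add]; linarith [hM m hm]⟩

/-- Enlarging a submodule increases the parabolic polynomial. -/
theorem eventually_parPoly_le (hL : CohB1.IsAmple L) (hE : Coh.IsCoh E) (𝓔 : ParSh.Str E)
    (hcoh : ∀ j, Coh.IsCoh ((𝓔.pieceX j : Subobject E) : X.Modules)) {V : X.Modules} (hW : Coh.IsCoh W)
    (hV : Coh.IsCoh V) (l : W ⟶ V) [Mono l] (v : V ⟶ E) {QX : Fin (𝓔.l + 2) → ℚ[X]}
    (hQX : ∀ j, ShStab.IsHilbPoly k X L (((𝓔.induced (l ≫ v)).pieceX j : Subobject W) : X.Modules) (QX j))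
    {VX : Fin (𝓔.l + 2) → ℚ[X]}
    (hVX : ∀ j, ShStab.IsHilbPoly k X L (((𝓔.induced v).pieceX j : Subobject V) : X.Modules) (VX j)) :
    ∃ M : ℕ, ∀ m : ℕ, M ≤ m →
      (parPoly (𝓔.induced (l ≫ v)) QX).eval (m : ℝ) ≤ (parPoly (𝓔.induced v) VX).eval (m : ℝ) := by
  have hcW := isCoh_induced k 𝓔 (l ≫ v) hW hE hcoh
  have hcV := isCoh_induced k 𝓔 v hV hE hcoh
  have hj : ∀ j, ∃ M : ℕ, ∀ m : ℕ, M ≤ m → (QX j).eval (m : ℚ) ≤ (VX j).eval (m : ℚ) := by
    intro j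
    let e : (((𝓔.induced (l ≫ v)).pieceX j : Subobject W) : X.Modules) ≅
        (((Subobject.pullback l).obj ((𝓔.induced v).pieceX j) : Subobject W) : X.Modules) :=
      Subobject.isoOfEq _ _ (by rw [pieceX_induced, pieceX_induced, Subobject.pullback_comp])
    haveI : Mono (Subobject.pullbackπ l ((𝓔.induced v).pieceX j)) :=
      (Subobject.isPullback l _).mono_fst_of_mono
    exact eventually_eval_le_of_mono hL (hcW j) (hcV j) (e.hom ≫ Subobject.pullbackπ l _) (hQX j) (hVX j)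
  choose M hM using hj
  refine ⟨Finset.univ.sup M, fun m hm => ?_⟩
  have h : ∀ j, ((rpoly (QX j)).eval (m : ℝ)) ≤ (rpoly (VX j)).eval (m : ℝ) := fun j => by
    rw [eval_rpoly, eval_rpoly]
    exact_mod_cast hM j m (le_trans (Finset.le_sup (Finset.mem_univ j)) hm)
  have key : ∀ {Z : X.Modules} (𝓩 : ParSh.Str Z) (Z' : Fin (𝓩.l + 2) → ℚ[X]),
      (parPoly 𝓩 Z').eval (m : ℝ) = 𝓩.wt 0 * (rpoly (Z' 0)).eval (m : ℝ) +
        ∑ j : Fin (𝓩.l + 1), (𝓩.wtX j.succ - 𝓩.wtX j.castSucc) * (rpoly (Z' j.succ)).eval (m : ℝ) := by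
    intro Z 𝓩 Z'
    have h1 := Fin.sum_univ_succ fun i => 𝓩.wtX i * (rpoly (Z' i)).eval (m : ℝ)
    have h2 := Fin.sum_univ_castSucc fun i => 𝓩.wtX i * (rpoly (Z' i)).eval (m : ℝ)
    rw [𝓩.wtX_last, one_mul] at h2
    rw [show 𝓩.wtX 0 = 𝓩.wt 0 from 𝓩.wtX_castSucc 0] at h1
    simp only [parPoly, eval_add, eval_finsetSum, eval_mul, eval_C, eval_sub, sub_mul, mul_sub,
      Finset.sum_sub_distrib, ← 𝓩.wtX_castSucc]
    rw [show 𝓩.wtX ((0 : Fin (𝓩.l + 1)).castSucc) = 𝓩.wt 0 from 𝓩.wtX_castSucc 0]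
    linarith
  erw [key (𝓔.induced (l ≫ v)) QX, key (𝓔.induced v) VX]
  exact add_le_add (mul_le_mul_of_nonneg_left (h 0) 𝓔.wt_nonneg)
    (Finset.sum_le_sum fun j _ => mul_le_mul_of_nonneg_left (h j.succ) (wtX_mono 𝓔 j))

end GrothLib.ParHilb
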